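import Cfsg.Agent.Lib.Lie.Sz.Partition
import Cfsg.Agent.Lib.Lie.Sz.LieEquiv
import Cfsg.Agent.Lib.Grp.ThreeOrders.PSLThreeFourFacts
import Cfsg.Agent.Lib.Grp.ThreeOrders.CitTools
import Cfsg.Agent.Lib.Invol.L34Parabolic
import Cfsg.Prelude.Def_Sz

/-!
Three centralisers of odd and pairwise different orders in the Suzuki groups, `A₇` and `PSL(3, 4)`.
-/

set_option autoImplicit false
set_option linter.style.haveILetI false
set_option linter.unusedSectionVars false
set_option maxHeartbeats 1000000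
set_option maxRecDepth 100000

universe u v

namespace Cfsg.Agent.Transfer.ConjRankFour

open Cfsg Cfsg.Agent

/-- Three centralisers of odd, pairwise different orders. -/
def ThreeOdd (M : Type u) [Group M] : Prop :=
  ∃ a b c : M, Odd (Nat.card (Subgroup.centralizer ({a} : Set M))) ∧
    Odd (Nat.card (Subgroup.centralizer ({b} : Set M))) ∧ Odd (Nat.card (Subgroup.centralizer ({c} : Set M))) ∧
    Nat.card (Subgroup.centralizer ({a} : Set M)) ≠ Nat.card (Subgroup.centralizer ({b} : Set M)) ∧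
    Nat.card (Subgroup.centralizer ({a} : Set M)) ≠ Nat.card (Subgroup.centralizer ({c} : Set M)) ∧
    Nat.card (Subgroup.centralizer ({b} : Set M)) ≠ Nat.card (Subgroup.centralizer ({c} : Set M))

theorem ThreeOdd.of_equiv {M : Type u} [Group M] {N : Type v} [Group N] (h : ThreeOdd M) (e : N ≃* M) :
    ThreeOdd N := by
  have key : ∀ g : M, Nat.card (Subgroup.centralizer ({e.symm g} : Set N)) =
      Nat.card (Subgroup.centralizer ({g} : Set M)) := fun g => Nat.card_congr
    { toFun := fun x => ⟨e x, Subgroup.mem_centralizer_singleton_iff.2 (by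
        simpa using congrArg e (Subgroup.mem_centralizer_singleton_iff.1 x.2))⟩
      invFun := fun y => ⟨e.symm y, Subgroup.mem_centralizer_singleton_iff.2 (by
        simpa using congrArg e.symm (Subgroup.mem_centralizer_singleton_iff.1 y.2))⟩
      left_inv := fun x => Subtype.ext (e.symm_apply_apply _)
      right_inv := fun y => Subtype.ext (e.apply_symm_apply _) }
  obtain ⟨a, b, c, h⟩ := h
  exact ⟨e.symm a, e.symm b, e.symm c, by simpa only [key] using h⟩

theorem threeOdd_suzuki {G : Type u} [Group G] (h : Cfsg.Lie.IsoSuzuki G) : ThreeOdd G := by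
  classical
  obtain ⟨F, hF, hFin, m, hm, hcard, ⟨e⟩⟩ := h
  have hS : Suz.SzField F m := ⟨hm, hcard⟩
  obtain ⟨x, y, ⟨-, hx, -⟩, ⟨-, hy, -⟩, -⟩ := Suz.exists_tori hS
  set q := 2 ^ (2 * m + 1) with hq
  set r := 2 ^ (m + 1) with hr
  have hr4 : 4 ≤ r := by
    rw [hr]
    exact le_trans (by norm_num) (Nat.pow_le_pow_right (by norm_num : 0 < 2) (by omega : 2 ≤ m + 1))
  have hrq : r ≤ q := Nat.pow_le_pow_right (by norm_num) (by omega)
  haveI : Nontrivial Fˣ := Fintype.one_lt_card_iff_nontrivial.1 (by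
    rw [Fintype.card_units, hcard]; omega)
  obtain ⟨z, hz⟩ := exists_ne (1 : Fˣ)
  have hz' : Nat.card (Subgroup.centralizer ({Suz.hTor hS z} : Set ↥(Cfsg.Sz F m))) = q - 1 := by
    rw [Suz.centralizer_torus hS hz, Suz.card_torus hS]
  obtain ⟨⟨-, o1, -⟩, ⟨-, o2, -⟩, ⟨-, o3, -⟩⟩ :=
    (⟨Suz.torusOrders_props hS (Or.inl rfl), Suz.torusOrders_props hS (Or.inr (Or.inl rfl)),
      Suz.torusOrders_props hS (Or.inr (Or.inr rfl))⟩ :
      (1 < q - 1 ∧ Odd (q - 1) ∧ ∀ l ∈ Suz.torusOrders m, q - 1 ≠ l → Nat.Coprime (q - 1) l) ∧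
      (1 < q + r + 1 ∧ Odd (q + r + 1) ∧ ∀ l ∈ Suz.torusOrders m, q + r + 1 ≠ l → Nat.Coprime (q + r + 1) l) ∧
      (1 < q - r + 1 ∧ Odd (q - r + 1) ∧ ∀ l ∈ Suz.torusOrders m, q - r + 1 ≠ l → Nat.Coprime (q - r + 1) l))
  exact ThreeOdd.of_equiv (M := ↥(Cfsg.Sz F m))
    ⟨Suz.hTor hS z, x, y, hz' ▸ o1, hx ▸ o2, hy ▸ o3, by rw [hz', hx]; omega, by rw [hz', hy]; omega,
      by rw [hx, hy]; omega⟩ (e.trans (Suz.szEquiv hS).symm)

section Seven

local notation "A7" => alternatingGroup (Fin 7)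

/-- A cycle of length seven. -/
def sevA : A7 := ⟨c[0, 1, 2, 3, 4, 5, 6], Equiv.Perm.mem_alternatingGroup.2 (by decide +kernel)⟩
/-- A cycle of length five. -/
def sevB : A7 := ⟨c[0, 1, 2, 3, 4], Equiv.Perm.mem_alternatingGroup.2 (by decide +kernel)⟩
/-- Two cycles of length three. -/
def sevC : A7 := ⟨c[0, 1, 2] * c[3, 4, 5], Equiv.Perm.mem_alternatingGroup.2 (by decide +kernel)⟩

theorem sev_cards :
    (Finset.univ.filter fun g : A7 => g * sevA = sevA * g).card = 7 ∧
    (Finset.univ.filter fun g : A7 => g * sevB = sevB * g).card = 5 ∧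
    (Finset.univ.filter fun g : A7 => g * sevC = sevC * g).card = 9 := by decide +kernel

theorem threeOdd_seven {G : Type u} [Group G] (e : G ≃* A7) : ThreeOdd G := by
  have key : ∀ c : A7, Nat.card (Subgroup.centralizer ({c} : Set A7)) =
      (Finset.univ.filter fun g : A7 => g * c = c * g).card := fun c => by
    rw [← SetLike.coe_sort_coe, Nat.card_coe_set_eq,
      show ((Subgroup.centralizer ({c} : Set A7) : Subgroup A7) : Set A7) =
        ↑(Finset.univ.filter fun g : A7 => g * c = c * g) from Set.ext fun g => by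
          simp [Subgroup.mem_centralizer_singleton_iff], Set.ncard_coe_finset]
  obtain ⟨h1, h2, h3⟩ := sev_cards
  exact ThreeOdd.of_equiv ⟨sevA, sevB, sevC, by rw [key, h1]; decide, by rw [key, h2]; decide,
    by rw [key, h3]; decide, by rw [key, key, h1, h2]; decide, by rw [key, key, h1, h3]; decide,
    by rw [key, key, h2, h3]; decide⟩ e

end Seven

section L34

open Matrix Cfsg.Agent.Spor Cfsg.Agent.Spor.SU32 Cfsg.Agent.Spor.L34Elem

local notation "M3" => Matrix (Fin 3) (Fin 3) F4
local notation "S" => Matrix.SpecialLinearGroup (Fin 3) F4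
local notation "PS" => Matrix.ProjectiveSpecialLinearGroup (Fin 3) F4

theorem tri_four : ∀ c a b f : F4,
    (!![c, a, b; 0, c, f; 0, 0, c] : M3) * !![c, a, b; 0, c, f; 0, 0, c] *
      (!![c, a, b; 0, c, f; 0, 0, c] * !![c, a, b; 0, c, f; 0, 0, c]) = (c * c * (c * c)) • (1 : M3) := by
  decide +kernel

theorem det_key : ∀ c d : F4, c * d * c = 1 → d = c := by decide +kernel

/-- An element commuting with an involution has order dividing four. -/
theorem pow_four_of_commute_involution {y t : PS} (ht : orderOf t = 2) (h : Commute y t) : y ^ 4 = 1 := by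
  have htS : orderOf (π tS) = 2 := by
    refine orderOf_eq_prime ?_ fun e => ?_
    · rw [← map_pow, show tS ^ 2 = 1 by decide +kernel, map_one]
    · obtain ⟨c, -, hc⟩ := center_scalar (π_eq_one.1 e)
      exact (show ∀ c : F4, (tS : M3) ≠ c • (1 : M3) by decide +kernel) c hc
  obtain ⟨g, hg⟩ := isConj_iff.1 (involutions_conj ht htS)
  suffices hy : (g * y * g⁻¹) ^ 4 = 1 by rwa [conj_pow, conj_eq_one_iff] at hy
  have hcom : Commute (g * y * g⁻¹) (π tS) := by
    rw [← hg]; exact h.map (MulAut.conj g).toMonoidHom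
  obtain ⟨A, hA⟩ := QuotientGroup.mk'_surjective _ (g * y * g⁻¹)
  rw [← hA] at hcom ⊢
  have hM : tS * tS = 1 := by decide +kernel
  have e := congrArg (fun s : S => (s : M3))
    (Invol.L34Par.conj_exact hM hM (mul_inv_eq_iff_eq_mul.2 hcom.eq))
  simp only [Matrix.SpecialLinearGroup.coe_mul] at e
  have e02 := congrFun (congrFun e 0) 2
  have e12 := congrFun (congrFun e 1) 2
  have e22 := congrFun (congrFun e 2) 2
  have e01 := congrFun (congrFun e 0) 1
  simp [tS, Matrix.mul_apply, Fin.sum_univ_three] at e02 e12 e22 e01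
  have hdet : (A : M3).det = 1 := A.2
  rw [Matrix.det_fin_three] at hdet
  have h00 : (A : M3) 0 0 = (A : M3) 2 2 := by
    have := e02
    grind
  have h10 : (A : M3) 1 0 = 0 := by grind
  have h20 : (A : M3) 2 0 = 0 := by grind
  have h21 : (A : M3) 2 1 = 0 := by grind
  have h11 : (A : M3) 1 1 = (A : M3) 0 0 := det_key _ _ (by
    rw [h10, h20, h21, ← h00] at hdet
    linear_combination hdet)
  have hAm : (A : M3) = !![(A : M3) 0 0, (A : M3) 0 1, (A : M3) 0 2; 0, (A : M3) 0 0, (A : M3) 1 2;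
      0, 0, (A : M3) 0 0] := by
    ext i j
    fin_cases i <;> fin_cases j <;> simp [h10, h20, h21, h11, ← h00]
  rw [← map_pow, π_eq_one]
  refine center_mem (c := (A : M3) 0 0 * (A : M3) 0 0 * ((A : M3) 0 0 * (A : M3) 0 0)) ?_
  rw [Matrix.SpecialLinearGroup.coe_pow, show (4 : ℕ) = 2 + 2 from rfl, pow_add, pow_two]
  conv_lhs => rw [hAm]
  exact tri_four _ _ _ _

theorem dvd_4032 {m : ℕ} (h : m ∣ 20160) (h2 : ¬ 2 ∣ m) (h3 : ¬ 3 ∣ m) : m ∣ 35 := by
  have e : (20160 : ℕ) = 2 ^ 6 * (3 ^ 2 * 35) := by norm_num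
  rw [e] at h
  exact ((((Nat.prime_three.coprime_iff_not_dvd).2 h3).symm.pow_right 2)).dvd_of_dvd_mul_left
    ((((Nat.prime_two.coprime_iff_not_dvd).2 h2).symm.pow_right 6).dvd_of_dvd_mul_left h)

theorem threeOdd_psl {F : Type} [Field F] [Fintype F] (hF : Fintype.card F = 4) {G : Type u} [Group G]
    (e : G ≃* Matrix.ProjectiveSpecialLinearGroup (Fin 3) F) : ThreeOdd G := by
  classical
  obtain ⟨m⟩ := model hF
  refine ThreeOdd.of_equiv ?_ (e.trans m)
  have hcard : Nat.card PS = 20160 := M21.natCard_psl card_F4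
  haveI : Fact (Nat.Prime 2) := ⟨Nat.prime_two⟩
  haveI : Fact (Nat.Prime 3) := ⟨Nat.prime_three⟩
  haveI : Fact (Nat.Prime 5) := ⟨by norm_num⟩
  haveI : Fact (Nat.Prime 7) := ⟨by norm_num⟩
  obtain ⟨x3, h3⟩ := exists_prime_orderOf_dvd_card' (G := PS) 3 (by rw [hcard]; norm_num)
  obtain ⟨x5, h5⟩ := exists_prime_orderOf_dvd_card' (G := PS) 5 (by rw [hcard]; norm_num)
  obtain ⟨x7, h7⟩ := exists_prime_orderOf_dvd_card' (G := PS) 7 (by rw [hcard]; norm_num)
  -- centralisers of elements of odd prime order have odd order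
  have hodd : ∀ {x : PS} {p : ℕ}, p.Prime → p ≠ 2 → orderOf x = p →
      ¬ 2 ∣ Nat.card (Subgroup.centralizer ({x} : Set PS)) := by
    intro x p hp hp2 hx h2
    obtain ⟨⟨t, ht⟩, hto⟩ := exists_prime_orderOf_dvd_card' (G := Subgroup.centralizer ({x} : Set PS)) 2 h2
    rw [Subgroup.orderOf_mk] at hto
    have := orderOf_dvd_of_pow_eq_one (pow_four_of_commute_involution hto
      (show Commute x t from (Subgroup.mem_centralizer_singleton_iff.1 ht).symm))
    rw [hx] at this
    exact hp2 ((Nat.prime_dvd_prime_iff_eq hp Nat.prime_two).1 (hp.dvd_of_dvd_pow (n := 2) this))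
  have hself : ∀ {x : PS} {p : ℕ}, orderOf x = p → p ∣ Nat.card (Subgroup.centralizer ({x} : Set PS)) :=
    fun {x p} hx => hx ▸ Subgroup.orderOf_dvd_natCard _ (Subgroup.mem_centralizer_singleton_iff.2 rfl)
  have hcommq : ∀ {x : PS} {p q : ℕ}, orderOf x = p → q.Prime → q ∣ Nat.card (Subgroup.centralizer ({x} : Set PS)) →
      p.Coprime q → ∃ z : PS, orderOf z = p * q := by
    intro x p q hx hq hd hpq
    haveI := Fact.mk hq
    obtain ⟨⟨t, ht⟩, hto⟩ := exists_prime_orderOf_dvd_card' (G := Subgroup.centralizer ({x} : Set PS)) q hd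
    rw [Subgroup.orderOf_mk] at hto
    refine ⟨x * t, ?_⟩
    rw [(show Commute x t from (Subgroup.mem_centralizer_singleton_iff.1 ht).symm).orderOf_mul_eq_mul_orderOf_of_coprime
      (by rw [hx, hto]; exact hpq), hx, hto]
  set c3 := Nat.card (Subgroup.centralizer ({x3} : Set PS))
  set c5 := Nat.card (Subgroup.centralizer ({x5} : Set PS))
  set c7 := Nat.card (Subgroup.centralizer ({x7} : Set PS))
  have o3 : ¬ 2 ∣ c3 := hodd Nat.prime_three (by norm_num) h3
  have o5 : ¬ 2 ∣ c5 := hodd (p := 5) (by norm_num) (by norm_num) h5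
  have o7 : ¬ 2 ∣ c7 := hodd (p := 7) (by norm_num) (by norm_num) h7
  have n5 : ¬ 3 ∣ c5 := fun h => by
    obtain ⟨z, hz⟩ := hcommq h5 Nat.prime_three h (by norm_num)
    exact no_fifteen z hz
  have n7 : ¬ 3 ∣ c7 := fun h => by
    obtain ⟨z, hz⟩ := hcommq h7 Nat.prime_three h (by norm_num)
    exact Grp.ThreeOrders.l34_no_twentyone card_F4 (MulEquiv.refl PS) z hz
  have d5 : c5 ∣ 35 := dvd_4032 (hcard ▸ Subgroup.card_subgroup_dvd_card _) o5 n5
  have h53 : c5 ≠ c3 := fun e => n5 (e ▸ hself h3)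
  have h73 : c7 ≠ c3 := fun e => n7 (e ▸ hself h3)
  have h57 : c5 ≠ c7 := by
    intro e
    have hc35 : c5 = 35 := Nat.dvd_antisymm d5
      ((show Nat.Coprime 5 7 by norm_num).mul_dvd_of_dvd_of_dvd (hself h5) (e ▸ hself h7))
    haveI : IsSimpleGroup PS := Classical.PSL_isSimple (by norm_num) (fun h => absurd h (by norm_num))
    have hns : ¬ Group.IsSolvable PS := fun hs => by
      obtain ⟨a, ha⟩ := exists_prime_orderOf_dvd_card' (G := PS) 5 (by rw [hcard]; norm_num)
      have hcomm : ∀ a b : PS, a * b = b * a := fun a b => IsSimpleGroup.comm_iff_isSolvable.mpr hs a b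
      have htop : Subgroup.centralizer ({x5} : Set PS) = ⊤ :=
        top_le_iff.1 fun g _ => Subgroup.mem_centralizer_singleton_iff.2 (hcomm g x5)
      have : c5 = 20160 := by
        show Nat.card _ = _
        rw [htop, Subgroup.card_top, hcard]
      omega
    set P := Subgroup.zpowers x5
    have hP : Nat.card P = 5 ^ (Nat.card PS).factorization 5 := by
      rw [Nat.card_zpowers, h5, hcard, show (20160 : ℕ) = 5 ^ 1 * 4032 by norm_num,
        Nat.factorization_mul (by norm_num) (by norm_num), Finsupp.add_apply, Nat.factorization_pow,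
        Finsupp.smul_apply, Nat.Prime.factorization_self (by norm_num),
        Nat.factorization_eq_zero_of_not_dvd (by norm_num : ¬ 5 ∣ 4032)]
      norm_num
    set Q : Sylow 5 PS := Sylow.ofCard P hP with hQ
    have hQP : (Q : Subgroup PS) = P := rfl
    have hC : Subgroup.centralizer (P : Set PS) = Subgroup.centralizer ({x5} : Set PS) := by
      rw [show P = Subgroup.closure {x5} from Subgroup.zpowers_eq_closure x5, Subgroup.centralizer_closure]
    set N := Subgroup.normalizer (P : Set PS)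
    have hnle : ¬ N ≤ Subgroup.centralizer (P : Set PS) :=
      Grp.ThreeOrders.not_normalizer_le_centralizer hns (by rw [hcard]; norm_num) Q
    have hker : P.normalizerMonoidHom.ker = (Subgroup.centralizer (P : Set PS)).subgroupOf N :=
      Subgroup.normalizerMonoidHom_ker P
    have hidx : ((Subgroup.centralizer (P : Set PS)).subgroupOf N).index ∣ 4 := by
      rw [← hker, Subgroup.index_ker]
      refine (Subgroup.card_subgroup_dvd_card _).trans (dvd_of_eq ?_)
      rw [IsCyclic.card_mulAut, Nat.card_zpowers, h5, Nat.totient_prime (by norm_num)]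
    have hne : ((Subgroup.centralizer (P : Set PS)).subgroupOf N).index ≠ 1 := fun h =>
      hnle (Subgroup.subgroupOf_eq_top.1 (Subgroup.index_eq_one.1 h))
    have hNcard : Nat.card N = 35 * ((Subgroup.centralizer (P : Set PS)).subgroupOf N).index := by
      rw [← ((Subgroup.centralizer (P : Set PS)).subgroupOf N).card_mul_index,
        Nat.card_congr (Subgroup.subgroupOfEquivOfLe (Subgroup.centralizer_le_normalizer _)).toEquiv, hC]
      rw [show Nat.card (Subgroup.centralizer ({x5} : Set PS)) = 35 from hc35]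
    have hn5 := card_sylow_modEq_one 5 PS
    rw [Q.card_eq_index_normalizer] at hn5
    change N.index ≡ 1 [MOD 5] at hn5
    have hNi : Nat.card N * N.index = 20160 := hcard ▸ N.card_mul_index
    rcases (Nat.dvd_prime_pow Nat.prime_two).1 (show _ ∣ 2 ^ 2 from hidx) with ⟨i, hi, hie⟩
    rw [hNcard, hie] at hNi
    interval_cases i
    · exact hne (by rw [hie]; rfl)
    · rw [show N.index = 288 by omega] at hn5
      exact absurd hn5 (by decide)
    · rw [show N.index = 144 by omega] at hn5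
      exact absurd hn5 (by decide)
  have od : ∀ {k : ℕ}, ¬ 2 ∣ k → Odd k := fun h => Nat.odd_iff.2 (by omega)
  exact ⟨x5, x7, x3, od o5, od o7, od o3, h57, h53, h73⟩

end L34

end Cfsg.Agent.Transfer.ConjRankFour
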