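import Cfsg.Agent.Lib.Transfer.ConjRankFour.Flat
import Cfsg.Agent.Lib.Transfer.ConjRankThree.Main
import Cfsg.Agent.S4355

/-!
Four class sizes `a, b, c, d` with `a` dividing `c` and `d` and prime to `b`: the group order is `a * b`,
and centralisers of involutions are solvable, with a normal `2`-complement unless the Sylow `2`-subgroups
are abelian.
-/

set_option autoImplicit false
set_option linter.style.haveILetI false
set_option linter.unusedSectionVars false
set_option maxHeartbeats 1000000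

open scoped Pointwise

universe u

namespace Cfsg.Agent.Transfer.ConjRankFour

open Cfsg Cfsg.Agent Cfsg.Agent.Transfer.ClassDisconnected Cfsg.Agent.Transfer.ConjRankThree

variable {G : Type u} [Group G] [Finite G] {a b c d : ℕ}

theorem Two.ne_ab (T : Two G a b c d) : a ≠ b := fun h => by
  have := T.cop
  rw [h, Nat.coprime_self] at this
  exact T.hb.ne' this

theorem Two.not_a_dvd_b (T : Two G a b c d) : ¬ a ∣ b := fun h =>
  T.ha.ne' (Nat.eq_one_of_dvd_coprimes T.cop dvd_rfl h)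

theorem Two.not_b_dvd_a (T : Two G a b c d) : ¬ b ∣ a := fun h =>
  T.hb.ne' (Nat.eq_one_of_dvd_coprimes T.cop h dvd_rfl)

theorem Two.of_dvd_a (T : Two G a b c d) {w : G} (hw : w ≠ 1) (h : cix w ∣ a) : cix w = a := by
  rcases T.mem w hw with e | e | e | e <;> rw [e] at h ⊢
  · exact absurd h T.not_b_dvd_a
  · exact (Nat.dvd_antisymm T.adc h).symm
  · exact (Nat.dvd_antisymm T.add h).symm

theorem Two.of_a_dvd (T : Two G a b c d) {w : G} (hw : w ≠ 1) (h : a ∣ cix w) :
    cix w = a ∨ cix w = c ∨ cix w = d := by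
  rcases T.mem w hw with e | e | e | e
  · exact Or.inl e
  · exact absurd (e ▸ h) T.not_a_dvd_b
  · exact Or.inr (Or.inl e)
  · exact Or.inr (Or.inr e)

theorem Two.ne_one_of (T : Two G a b c d) {w : G} (h : cix w = a ∨ cix w = b ∨ cix w = c ∨ cix w = d) : w ≠ 1 := by
  intro e
  have := T.ha
  have := T.hb
  have := T.nac
  have := T.nad
  rcases h with h | h | h | h <;> rw [e, cix_one] at h
  · omega
  · omega
  · exact absurd (Nat.eq_one_of_dvd_coprimes (Nat.coprime_one_right a) dvd_rfl (h ▸ T.adc)) (by omega)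
  · exact absurd (Nat.eq_one_of_dvd_coprimes (Nat.coprime_one_right a) dvd_rfl (h ▸ T.add)) (by omega)

variable [IsSimpleGroup G]

theorem Ctx.not_psl_even (X : Ctx G) {m : ℕ} {F : Type} [Field F] [Fintype F] (hm : 2 ≤ m)
    (hF : Fintype.card F = 2 ^ m) (e : G ≃* Matrix.ProjectiveSpecialLinearGroup (Fin 2) F) : False := by
  have h := cix_psl X.hna hm hF e
  have h4 := X.four
  rw [h] at h4
  have h3 : ∀ p q r : ℕ, ({p, q, r} : Set ℕ).ncard ≤ 3 := fun p q r =>
    (Set.ncard_insert_le _ _).trans (Nat.succ_le_succ ((Set.ncard_insert_le _ _).trans (by simp)))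
  have := h3 (Fintype.card F * (Fintype.card F - 1)) (Fintype.card F ^ 2 - 1) (Fintype.card F * (Fintype.card F + 1))
  omega

theorem Two.ncomm (X : Ctx G) (T : Two G a b c d) {x y : G} (hx : cix x = a) (hy : cix y = b) : ¬ Commute x y :=
  ConjRankFour.not_commute X.hna (T.ne_one_of (Or.inl hx)) (T.ne_one_of (Or.inr (Or.inl hy))) (by rw [hx, hy]; exact T.cop)

/-- An element of prime order and class size `a`. -/
theorem Two.exists_x (X : Ctx G) (T : Two G a b c d) : ∃ (x : G) (p : ℕ), p.Prime ∧ orderOf x = p ∧ cix x = a := by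
  obtain ⟨x, hx1, hx⟩ := T.exA
  obtain ⟨j, p, k, hp, hjk, hjc⟩ := exists_primary_noncentral (not_mem_center X.hna hx1)
  have hj1 : x ^ j ≠ 1 := fun e => hjc (e ▸ one_mem _)
  obtain ⟨i, hio, -, hle⟩ := exists_root hp hj1 hjk
  refine ⟨i, p, hp, hio, T.of_dvd_a (fun e => hp.ne_one (by rw [← hio, e, orderOf_one])) ?_⟩
  exact (Subgroup.index_dvd_of_le hle).trans (hx ▸ cix_pow_dvd x j)

theorem Two.exists_y (T : Two G a b c d) {r : ℕ} (hr : r.Prime) (hra : r ∣ a) :
    ∃ y : G, orderOf y = r ∧ cix y = b := by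
  haveI := Fact.mk hr
  obtain ⟨x, -, hx⟩ := T.exA
  obtain ⟨-, y, -, hyo, -, hnd⟩ := exists_central (G := G) r (hra.trans (hx ▸ cix_dvd_card x))
  refine ⟨y, hyo, ?_⟩
  rcases T.mem y (fun e => hr.ne_one (by rw [← hyo, e, orderOf_one])) with e | e | e | e
  · exact absurd (e ▸ hra) hnd
  · exact e
  · exact absurd (e ▸ hra.trans T.adc) hnd
  · exact absurd (e ▸ hra.trans T.add) hnd

theorem Two.exists_prime_ne (X : Ctx G) (T : Two G a b c d) (p : ℕ) : ∃ r : ℕ, r.Prime ∧ r ∣ a ∧ r ≠ p := by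
  by_contra hc
  push Not at hc
  obtain ⟨q, hq, hqa⟩ := Nat.exists_prime_and_dvd T.ha.ne'
  have hqp := hc q hq hqa
  obtain ⟨x, hx1, hx⟩ := T.exA
  have ha : a = q ^ a.primeFactorsList.length := Nat.eq_prime_pow_of_unique_prime_dvd
    (by have := T.ha; omega) fun {l} hl hla => (hc l hl hla).trans hqp.symm
  exact card_not_prime X.hna (Char.simple_prime_pow_class q _ hq x hx1 (show cix x = _ from hx.trans ha))

theorem Two.inf_index (T : Two G a b c d) {x y : G} (hx : cix x = a) (hy : cix y = b) :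
    (Subgroup.centralizer ({x} : Set G) ⊓ Subgroup.centralizer ({y} : Set G)).index = a * b := by
  rw [Grp.HallConv.index_inf_of_coprime (show (cix x).Coprime (cix y) by rw [hx, hy]; exact T.cop)]
  show cix x * cix y = _
  rw [hx, hy]

/-- The class size of a commuting product. -/
theorem Two.mul_cases (T : Two G a b c d) {v y : G} (hy : cix y = b) (h : Commute v y)
    (hc : (orderOf v).Coprime (orderOf y)) (ha : a ∣ cix v) :
    (cix (v * y) = c ∨ cix (v * y) = d) ∧ a * b ∣ cix (v * y) := by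
  have hd : a * b ∣ cix (v * y) := T.cop.mul_dvd_of_dvd_of_dvd
    (ha.trans (Subgroup.index_dvd_of_le (centralizer_mul_le h hc)))
    (hy ▸ Subgroup.index_dvd_of_le (centralizer_mul_le' h hc))
  refine ⟨?_, hd⟩
  rcases T.of_a_dvd (mul_ne_one' hc (ne_one_of_cix fun e => T.ha.ne' (Nat.dvd_one.1 (e ▸ ha))))
    ((dvd_mul_right a b).trans hd) with e | e | e
  · exact absurd ((dvd_mul_left b a).trans (e ▸ hd)) T.not_b_dvd_a
  · exact Or.inl e
  · exact Or.inr e

theorem Two.inf_size (X : Ctx G) (T : Two G a b c d) {x y v : G} (hx : cix x = a) (hy : cix y = b)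
    (hv : v ∈ Subgroup.centralizer ({x} : Set G) ⊓ Subgroup.centralizer ({y} : Set G)) (hv1 : v ≠ 1) :
    cix v = c ∨ cix v = d := by
  rcases T.mem v hv1 with e | e | e | e
  · exact absurd (mem_cent.1 hv.2) (T.ncomm X e hy)
  · exact absurd (mem_cent.1 hv.1).symm (T.ncomm X hx e)
  · exact Or.inl e
  · exact Or.inr e

theorem Two.not_dvd_d (X : Ctx G) (T : Two G a b c d) : ¬ a * b ∣ d := by
  intro hd
  obtain ⟨x, p, hp, hxo, hx⟩ := T.exists_x X
  obtain ⟨r, hr, hra, hrp⟩ := T.exists_prime_ne X p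
  haveI := Fact.mk hr
  obtain ⟨y, hyo, hy⟩ := T.exists_y hr hra
  set D := Subgroup.centralizer ({x} : Set G) ⊓ Subgroup.centralizer ({y} : Set G) with hD
  have hDi : D.index = a * b := T.inf_index hx hy
  have hDmem : ∀ {g : G}, g ∈ D → Commute g x ∧ Commute g y := fun hg => ⟨mem_cent.1 hg.1, mem_cent.1 hg.2⟩
  have hnxy : ¬ Commute x y := T.ncomm X hx hy
  -- the product has class size `c`
  obtain ⟨hcab, hcne⟩ : c ∣ a * b ∧ c ≠ a * b := by
    have hco : (cix x).Coprime (cix y) := by rw [hx, hy]; exact T.cop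
    have hxy : x * y ≠ 1 := fun e => T.ne_ab (by rw [← hx, ← hy, eq_inv_of_mul_eq_one_left e, cix_inv])
    have hne : cix (x * y) ≠ a * b := fun e => by
      have heq : D = Subgroup.centralizer ({x * y} : Set G) := by
        refine Subgroup.eq_of_le_of_card_ge (fun g hg => mem_cent.2 ((hDmem hg).1.mul_right (hDmem hg).2))
          (le_of_eq ?_)
        have h1 := card_mul_cix (x * y)
        rw [← D.card_mul_index, hDi, e] at h1
        exact Nat.eq_of_mul_eq_mul_right (by have := T.ha; have := T.hb; positivity) h1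
      have h1 : Commute (x * y) x := (hDmem (heq ▸ self_mem (x * y))).1
      have h2 : x * (y * x) = x * (x * y) := by rw [← mul_assoc, h1.eq]
      exact hnxy (mul_left_cancel h2).symm
    have aux : ∀ {u v : G}, (cix u).Coprime (cix v) → 1 < cix u → 1 < cix v → cix (u * v) ≠ cix v := by
      intro u v huv hu hv he
      have h1 := card_normalClosure_dvd huv he
      obtain ⟨g, hg⟩ : ∃ g : G, u⁻¹ * (g * u * g⁻¹) ≠ 1 := by
        by_contra hc
        push Not at hc
        exact hu.ne' (cix_eq_one.2 (Subgroup.mem_center_iff.2 fun g =>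
          mul_inv_eq_iff_eq_mul.1 (inv_mul_eq_one.1 (hc g)).symm))
      rw [normalClosure_eq_top (Set.mem_range_self g) hg, Subgroup.card_top] at h1
      have h2 : Nat.card (Subgroup.centralizer ({v} : Set G)) ∣ 1 :=
        Nat.dvd_of_mul_dvd_mul_right (cix_pos v) (by rw [card_mul_cix, one_mul]; exact h1)
      have h3 : v = 1 := Subgroup.mem_bot.1
        (Subgroup.eq_bot_of_card_eq _ (Nat.dvd_one.1 h2) ▸ self_mem v)
      rw [h3, cix_one] at hv
      omega
    have hab : cix (x * y) ∣ a * b := by rw [← hx, ← hy]; exact cix_mul_dvd hco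
    rcases T.mem _ hxy with e | e | e | e
    · have h3 : cix (y * x) = cix (x * y) := by rw [← cix_conj x (y * x)]; congr 1; group
      exact absurd (h3.trans (e.trans hx.symm)) (aux hco.symm (hy ▸ T.hb) (hx ▸ T.ha))
    · exact absurd (e.trans hy.symm) (aux hco (hx ▸ T.ha) (hy ▸ T.hb))
    · exact ⟨e ▸ hab, e ▸ hne⟩
    · exact absurd (e.trans (Nat.dvd_antisymm (e ▸ hab) hd)) hne
  have hnc : ¬ d ∣ c := fun h => hcne (Nat.dvd_antisymm hcab (hd.trans h))
  -- `r` divides the order of the intersection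
  have hrD : r ∣ Nat.card D := by
    obtain ⟨s, hs⟩ := hd
    have hcardC : ∀ w : G, cix w = d → Nat.card D = Nat.card (Subgroup.centralizer ({w} : Set G)) * s := by
      intro w hw
      have h1 := card_mul_cix w
      rw [hw, hs, ← D.card_mul_index, hDi, mul_comm (a * b) s, ← mul_assoc] at h1
      exact (Nat.eq_of_mul_eq_mul_right (by have := T.ha; have := T.hb; positivity) h1).symm
    by_contra hn
    obtain ⟨w, hw1, hw⟩ := T.exD
    have hD1 : Nat.card D ≠ 1 := fun e => by
      rw [hcardC w hw] at e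
      exact hw1 (Subgroup.mem_bot.1 (Subgroup.eq_bot_of_card_eq _ (Nat.eq_one_of_mul_eq_one_right e) ▸ self_mem w))
    obtain ⟨q, hq, hqD⟩ := Nat.exists_prime_and_dvd hD1
    haveI := Fact.mk hq
    obtain ⟨v, hvo⟩ := exists_prime_orderOf_dvd_card' (G := D) q hqD
    rw [← Subgroup.orderOf_coe] at hvo
    have hv1 : (v : G) ≠ 1 := fun e => hq.ne_one (by rw [← hvo, e, orderOf_one])
    have hqr : q ≠ r := fun e => hn (e ▸ hqD)
    have hco : (orderOf (v : G)).Coprime (orderOf y) := by rw [hvo, hyo]; exact (Nat.coprime_primes hq hr).2 hqr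
    have hav : a ∣ cix (v : G) := by
      rcases T.inf_size X hx hy v.2 hv1 with e | e <;> rw [e]
      exacts [T.adc, T.add]
    obtain ⟨hcd, hab⟩ := T.mul_cases hy (hDmem v.2).2 hco hav
    rcases hcd with e | e
    · exact hcne (Nat.dvd_antisymm hcab (e ▸ hab))
    · refine hn ((hyo ▸ Subgroup.orderOf_dvd_natCard _ (mem_cent.2 ?_)).trans
        (hcardC _ e ▸ dvd_mul_right _ s))
      exact ((hDmem v.2).2.symm).mul_right (Commute.refl y)
  obtain ⟨R⟩ : Nonempty (Sylow r D) := inferInstance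
  obtain ⟨v, hvR, hvo, hvc, -⟩ := exists_center r hrD R
  rw [← Subgroup.orderOf_coe] at hvo
  have hv1 : (v : G) ≠ 1 := fun e => hr.ne_one (by rw [← hvo, e, orderOf_one])
  have hco : (orderOf (v : G)).Coprime (orderOf x) := by rw [hvo, hxo]; exact (Nat.coprime_primes hr hp).2 hrp
  have hvc' : cix (v : G) = c := by
    refine (T.inf_size X hx hy v.2 hv1).resolve_right fun e => hnxy ?_
    have hle := centralizer_mul_le (hDmem v.2).1 hco
    have hd' : d ∣ cix ((v : G) * x) := e ▸ Subgroup.index_dvd_of_le hle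
    have he : cix ((v : G) * x) = d := by
      rcases T.of_a_dvd (mul_ne_one' hco hv1) (T.add.trans hd') with e' | e' | e'
      · exact absurd (Nat.dvd_antisymm T.add (e' ▸ hd')) T.nad
      · exact absurd (e' ▸ hd') hnc
      · exact e'
    have h1 := centralizer_mul_le' (hDmem v.2).1 hco
    rw [eq_of_le_cix hle (he.trans e.symm)] at h1
    exact (mem_cent.1 (h1 (mem_cent.2 (hDmem v.2).2.symm))).symm
  -- a larger `r`-subgroup of the centraliser of `v`
  set R₀ := (R : Subgroup D).map D.subtype with hR₀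
  set Z := Subgroup.zpowers y with hZ
  have hZp : IsPGroup r Z := IsPGroup.of_card (n := 1) (by rw [Nat.card_zpowers, hyo, pow_one])
  have hR₀D : R₀ ≤ D := Subgroup.map_subtype_le _
  have hnorm : R₀ ≤ Subgroup.normalizer (Z : Set G) := by
    refine le_trans ?_ (Subgroup.centralizer_le_normalizer _)
    intro g hg
    refine Subgroup.mem_centralizer_iff.2 fun z hz => ?_
    obtain ⟨i, rfl⟩ := hz
    exact ((hDmem (hR₀D hg)).2.zpow_right i).eq.symm
  have hsup : IsPGroup r ↥(R₀ ⊔ Z) := (R.isPGroup'.map D.subtype).to_sup_of_normal_right' hZp hnorm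
  obtain ⟨i, hi⟩ := IsPGroup.iff_card.1 hsup
  have hle : R₀ ⊔ Z ≤ Subgroup.centralizer ({(v : G)} : Set G) := by
    refine sup_le ?_ ((Subgroup.zpowers_le).2 (mem_cent.2 (hDmem v.2).2.symm))
    rintro _ ⟨g, hg, rfl⟩
    exact mem_cent.2 ((hvc g hg).map D.subtype)
  obtain ⟨s, hs⟩ := hcab
  have hsb : s ∣ b := by
    obtain ⟨k, hk⟩ := T.adc
    refine ⟨k, Nat.eq_of_mul_eq_mul_left (by have := T.ha; omega : 0 < a) ?_⟩
    rw [hs, hk]; ring
  have hcard : Nat.card (Subgroup.centralizer ({(v : G)} : Set G)) = Nat.card D * s := by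
    have h1 := card_mul_cix (v : G)
    rw [hvc', ← D.card_mul_index, hDi, hs, mul_comm c s, ← mul_assoc] at h1
    exact Nat.eq_of_mul_eq_mul_right (hvc' ▸ cix_pos (v : G)) h1
  have h3 : r ^ i ∣ Nat.card D := by
    refine (((hr.coprime_iff_not_dvd).2 fun h => hr.ne_one
      (Nat.eq_one_of_dvd_coprimes T.cop hra (h.trans hsb))).pow_left i).dvd_of_dvd_mul_right ?_
    exact hcard ▸ hi ▸ Subgroup.card_dvd_of_le hle
  have h4 : Nat.card (R₀ ⊔ Z : Subgroup G) ≤ Nat.card R₀ := by
    rw [hi, hR₀, Subgroup.card_map_of_injective D.subtype_injective]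
    exact Nat.le_of_dvd Nat.card_pos (R.pow_dvd_card_of_pow_dvd_card h3)
  have heq : R₀ = R₀ ⊔ Z := Subgroup.eq_of_le_of_card_ge le_sup_left h4
  have hyD : y ∈ D := hR₀D (heq ▸ Subgroup.mem_sup_right (Subgroup.mem_zpowers y))
  exact hnxy (hDmem hyD).1.symm

theorem Two.card_eq (X : Ctx G) (T : Two G a b c d) : Nat.card G = a * b := by
  obtain ⟨x, p, -, -, hx⟩ := T.exists_x X
  have hbot : ∀ r : ℕ, r.Prime → r ∣ a → ∀ y : G, orderOf y = r → cix y = b →
      ∀ q : ℕ, q.Prime → q ∣ Nat.card ↥(Subgroup.centralizer ({x} : Set G) ⊓ Subgroup.centralizer ({y} : Set G)) →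
        q = r := by
    intro r hr _ y hyo hy q hq hqD
    haveI := Fact.mk hq
    obtain ⟨v, hvo⟩ := exists_prime_orderOf_dvd_card'
      (G := ↥(Subgroup.centralizer ({x} : Set G) ⊓ Subgroup.centralizer ({y} : Set G))) q hqD
    rw [← Subgroup.orderOf_coe] at hvo
    by_contra hne
    have hav : a ∣ cix (v : G) := by
      rcases T.inf_size X hx hy v.2 (fun e => hq.ne_one (by rw [← hvo, e, orderOf_one])) with e | e <;> rw [e]
      exacts [T.adc, T.add]
    obtain ⟨hcd, hab⟩ := T.mul_cases hy (mem_cent.1 v.2.2)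
      (by rw [hvo, hyo]; exact (Nat.coprime_primes hq hr).2 hne) hav
    rcases hcd with e | e
    · exact T.symm.not_dvd_d X (e ▸ hab)
    · exact T.not_dvd_d X (e ▸ hab)
  obtain ⟨r, hr, hra⟩ := Nat.exists_prime_and_dvd T.ha.ne'
  obtain ⟨r', hr', hra', hne⟩ := T.exists_prime_ne X r
  obtain ⟨y, hyo, hy⟩ := T.exists_y hr hra
  obtain ⟨y', hyo', hy'⟩ := T.exists_y hr' hra'
  set D := Subgroup.centralizer ({x} : Set G) ⊓ Subgroup.centralizer ({y} : Set G) with hD
  set D' := Subgroup.centralizer ({x} : Set G) ⊓ Subgroup.centralizer ({y'} : Set G) with hD'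
  have hpos : 0 < a * b := by have := T.ha; have := T.hb; positivity
  have heq : Nat.card D = Nat.card D' := Nat.eq_of_mul_eq_mul_right hpos (by
    rw [← T.inf_index hx hy, ← hD, D.card_mul_index, T.inf_index hx hy, ← T.inf_index hx hy', ← hD',
      D'.card_mul_index])
  have h1 : Nat.card D = 1 := by
    by_contra h
    obtain ⟨q, hq, hqD⟩ := Nat.exists_prime_and_dvd h
    exact hne ((hbot r' hr' hra' y' hyo' hy' q hq (heq ▸ hqD)).symm.trans (hbot r hr hra y hyo hy q hq hqD))
  rw [← D.card_mul_index, h1, T.inf_index hx hy, one_mul]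

theorem Two.card_A (X : Ctx G) (T : Two G a b c d) {x : G} (hx : cix x = a) :
    Nat.card (Subgroup.centralizer ({x} : Set G)) = b := by
  have h := card_mul_cix x
  rw [hx, T.card_eq X, mul_comm a b] at h
  exact Nat.eq_of_mul_eq_mul_right (by have := T.ha; omega) h

theorem Two.card_B (X : Ctx G) (T : Two G a b c d) {y : G} (hy : cix y = b) :
    Nat.card (Subgroup.centralizer ({y} : Set G)) = a := by
  have h := card_mul_cix y
  rw [hy, T.card_eq X] at h
  exact Nat.eq_of_mul_eq_mul_right (by have := T.hb; omega) h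

theorem Two.card_C_dvd (X : Ctx G) (T : Two G a b c d) {v : G} (hv : cix v = c) :
    Nat.card (Subgroup.centralizer ({v} : Set G)) ∣ b := by
  obtain ⟨k, hk⟩ := T.adc
  refine ⟨k, ?_⟩
  have h := card_mul_cix v
  rw [hv, T.card_eq X, hk] at h
  have : 0 < a := by have := T.ha; omega
  refine Nat.eq_of_mul_eq_mul_left this ?_
  rw [← h]
  ring

theorem Two.typeB (X : Ctx G) (T : Two G a b c d) {w : G} (hw : w ≠ 1) (ho : orderOf w ∣ a) : cix w = b := by
  have h0 := Subgroup.orderOf_dvd_natCard _ (self_mem w)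
  have h1 : orderOf w ≠ 1 := fun h => hw (orderOf_eq_one_iff.1 h)
  rcases T.mem w hw with h | h | h | h
  · rw [T.card_A X h] at h0
    exact absurd (Nat.eq_one_of_dvd_coprimes T.cop ho h0) h1
  · exact h
  · exact absurd (Nat.eq_one_of_dvd_coprimes T.cop ho (h0.trans (T.card_C_dvd X h))) h1
  · exact absurd (Nat.eq_one_of_dvd_coprimes T.cop ho (h0.trans (T.symm.card_C_dvd X h))) h1

/-- The centraliser of an element of class size `b` is abelian and is the centraliser of each of its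
nontrivial elements. -/
theorem Two.cB (X : Ctx G) (T : Two G a b c d) {y : G} (hy : cix y = b) :
    (∀ p ∈ Subgroup.centralizer ({y} : Set G), ∀ q ∈ Subgroup.centralizer ({y} : Set G), p * q = q * p) ∧
    ∀ w ∈ Subgroup.centralizer ({y} : Set G), w ≠ 1 →
      Subgroup.centralizer ({w} : Set G) = Subgroup.centralizer ({y} : Set G) := by
  set R := Subgroup.centralizer ({y} : Set G) with hR
  have hRa : Nat.card R = a := T.card_B X hy
  have htype : ∀ w ∈ R, w ≠ 1 → cix w = b := fun w hw hw1 =>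
    T.typeB X hw1 (hRa ▸ R.orderOf_dvd_natCard hw)
  have hy1 : y ≠ 1 := fun h => by
    rw [h, cix_eq_one.2 (Subgroup.one_mem _)] at hy
    exact T.hb.ne hy
  obtain ⟨r, hr, hry⟩ := Nat.exists_prime_and_dvd (fun h => hy1 (orderOf_eq_one_iff.1 h) : orderOf y ≠ 1)
  haveI := Fact.mk hr
  set y₀ := y ^ (orderOf y / r) with hy₀
  have hy₀o : orderOf y₀ = r := orderOf_pow_orderOf_div (orderOf_pos y).ne' hry
  have hy₀1 : y₀ ≠ 1 := fun h => hr.ne_one (by rw [← hy₀o, h, orderOf_one])
  have hy₀R : y₀ ∈ R := pow_mem (self_mem y) _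
  have hC₀ : Subgroup.centralizer ({y₀} : Set G) = R :=
    (eq_of_le_cix (centralizer_le_pow y _) (hy.trans (htype _ hy₀R hy₀1).symm)).symm
  have key : ∀ p q : G, p ≠ 1 → q ≠ 1 → Subgroup.centralizer ({p} : Set G) = R → q ∈ R →
      (orderOf p).Coprime (orderOf q) → Subgroup.centralizer ({q} : Set G) = R := by
    intro p q hp hq hpR hqR hc
    have hpm : p ∈ R := hpR ▸ self_mem p
    have hcom : Commute p q := (mem_cent.1 (hpR.symm ▸ hqR)).symm
    have hpq : cix (p * q) = b := htype _ (mul_mem hpm hqR) (mul_ne_one' hc hp)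
    rw [← eq_of_le_cix (centralizer_mul_le' hcom hc) (hpq.trans (htype q hqR hq).symm),
      eq_of_le_cix (centralizer_mul_le hcom hc) (hpq.trans (htype p hpm hp).symm), hpR]
  obtain ⟨s, hs, hsa, hsr⟩ : ∃ s : ℕ, s.Prime ∧ s ∣ a ∧ s ≠ r := by
    by_contra hc
    push Not at hc
    have ha : a = r ^ a.primeFactorsList.length :=
      Nat.eq_prime_pow_of_unique_prime_dvd (by have := T.ha; omega) fun {q} hq hqa => hc q hq hqa
    obtain ⟨x, hx1, hx⟩ := T.exA
    exact card_not_prime X.hna (Char.simple_prime_pow_class r _ hr x hx1 (show cix x = _ from hx.trans ha))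
  haveI := Fact.mk hs
  obtain ⟨⟨w₀, hw₀R⟩, hw₀o⟩ := exists_prime_orderOf_dvd_card' (G := R) s (hRa.symm ▸ hsa)
  rw [Subgroup.orderOf_mk] at hw₀o
  have hw₀1 : w₀ ≠ 1 := fun h => hs.ne_one (by rw [← hw₀o, h, orderOf_one])
  have hCw : Subgroup.centralizer ({w₀} : Set G) = R := key y₀ w₀ hy₀1 hw₀1 hC₀ hw₀R
    (by rw [hy₀o, hw₀o]; exact (Nat.coprime_primes hr hs).2 hsr.symm)
  have hcentral : ∀ g ∈ R, g ∈ Subgroup.centralizer (R : Set G) := by
    intro g hg
    refine mem_of_primary _ fun j q k hq hjk => ?_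
    by_cases h1 : g ^ j = 1
    · rw [h1]; exact one_mem _
    have hgR : g ^ j ∈ R := pow_mem hg j
    have hCg : Subgroup.centralizer ({g ^ j} : Set G) = R := by
      by_cases hqr : q = r
      · refine key w₀ _ hw₀1 h1 hCw hgR ?_
        rw [hw₀o, hjk, hqr]
        exact ((Nat.coprime_primes hs hr).2 hsr).pow_right k
      · refine key y₀ _ hy₀1 h1 hC₀ hgR ?_
        rw [hy₀o, hjk]
        exact ((Nat.coprime_primes hr hq).2 (Ne.symm hqr)).pow_right k
    refine Subgroup.mem_centralizer_iff.2 fun p hp => ?_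
    exact (mem_cent.1 (hCg.symm ▸ hp : p ∈ Subgroup.centralizer ({g ^ j} : Set G))).eq
  have hab : ∀ p ∈ R, ∀ q ∈ R, p * q = q * p := fun p hp q hq =>
    (Subgroup.mem_centralizer_iff.1 (hcentral p hp) q hq).symm
  refine ⟨hab, fun w hw hw1 => (Subgroup.eq_of_le_of_card_ge (fun p hp => mem_cent.2 (hab p hp w hw)) ?_).symm⟩
  rw [hRa, T.card_B X (htype w hw hw1)]


theorem Two.isolated (X : Ctx G) (T : Two G a b c d) {x : G} (hx : cix x = a) {u : G}
    (hu : u⁻¹ * x * u ∈ Subgroup.centralizer ({x} : Set G)) : u ∈ Subgroup.centralizer ({x} : Set G) := by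
  letI := Fintype.ofFinite G
  obtain ⟨y, -, hy⟩ := T.exB
  refine ConjRankThree.isolated X.hna (Subgroup.centralizer ({y} : Set G)) (T.ne_one_of (Or.inl hx)) (T.cB X hy).1
    (fun w hw hw1 => (T.cB X hy).2 w hw hw1) ?_ ?_ hu
  · rw [T.card_B X hy, T.card_A X hx, T.card_eq X]
  · rw [T.card_B X hy, T.card_A X hx]
    exact T.cop

omit [IsSimpleGroup G] in
theorem mem_sylow_of_le {t : G} (ht : orderOf t = 2) {P : Sylow 2 G}
    (hP : (P : Subgroup G) ≤ Subgroup.centralizer ({t} : Set G)) : t ∈ (P : Subgroup G) := by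
  haveI := Fact.mk Nat.prime_two
  have hz : IsPGroup 2 (Subgroup.zpowers t) := IsPGroup.of_card (n := 1) (by rw [Nat.card_zpowers, ht, pow_one])
  have hnorm : (P : Subgroup G) ≤ Subgroup.normalizer (Subgroup.zpowers t : Set G) := by
    refine le_trans ?_ (Subgroup.centralizer_le_normalizer _)
    intro p hp
    refine Subgroup.mem_centralizer_iff.2 fun z hz => ?_
    obtain ⟨i, rfl⟩ := hz
    exact ((mem_cent.1 (hP hp)).zpow_right i).eq.symm
  have hsup : IsPGroup 2 ↥((P : Subgroup G) ⊔ Subgroup.zpowers t) :=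
    P.isPGroup'.to_sup_of_normal_right' hz hnorm
  exact (P.is_maximal' hsup le_sup_left) ▸ Subgroup.mem_sup_right (Subgroup.mem_zpowers t)

theorem Two.odd_a (X : Ctx G) (T : Two G a b c d) : ¬ 2 ∣ a := by
  intro h2
  obtain ⟨m, F, hF, hFin, hm, hcard, ⟨e⟩⟩ := exists_psl X.hna fun t ht => ⟨⟨fun p q => Subtype.ext
    ((T.cB X (T.typeB X (ne_one_of_two ht) (ht.symm ▸ h2))).1 p p.2 q q.2)⟩⟩
  exact X.not_psl_even hm hcard e

theorem Two.cix_involution (X : Ctx G) (T : Two G a b c d) {t : G} (ht : orderOf t = 2) :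
    cix t = c ∨ cix t = d := by
  haveI : Fact (Nat.Prime 2) := ⟨Nat.prime_two⟩
  rcases T.mem t (ne_one_of_two ht) with h | h | h | h
  · exfalso
    obtain ⟨P, hP⟩ := exists_sylow_le_centralizer (r := 2) (u := t) (fun h2 => T.odd_a X (h ▸ h2))
    obtain ⟨N, hN, hNodd, hNc⟩ := Cfsg.Agent.S0215.result P t ht (mem_sylow_of_le ht hP) fun g hg => by
      have hg' : g⁻¹ ∈ Subgroup.centralizer ({t} : Set G) :=
        T.isolated X h (by rw [inv_inv]; exact hP hg)
      have := mem_cent.1 (inv_mem hg')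
      rw [inv_inv] at this
      rw [this.eq, mul_inv_cancel_right]
    rcases hN.eq_bot_or_eq_top with hb | htop
    · refine not_mem_center X.hna (ne_one_of_two ht) (Subgroup.mem_center_iff.2 fun g => ?_)
      have h1 := Subgroup.mem_bot.1 (hb ▸ hNc g)
      exact (mul_inv_eq_iff_eq_mul.1 (mul_inv_eq_one.1 h1)).symm
    · rw [htop, Subgroup.card_top, Nat.odd_iff] at hNodd
      have : 2 ∣ Nat.card G := ht ▸ orderOf_dvd_natCard t
      omega
  · exact absurd (T.card_B X h ▸ ht ▸ Subgroup.orderOf_dvd_natCard _ (self_mem t)) (T.odd_a X)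
  · exact Or.inl h
  · exact Or.inr h

/-- No class size other than `c` and `d` is a multiple of `c`. -/
theorem Two.of_c_dvd (T : Two G a b c d) {w : G} (hw : w ≠ 1) (h : c ∣ cix w) : cix w = c ∨ cix w = d := by
  rcases T.of_a_dvd hw (T.adc.trans h) with e | e | e
  · exact absurd (Nat.dvd_antisymm T.adc (e ▸ h)) T.nac
  · exact Or.inl e
  · exact Or.inr e

/-- Both kinds of involution-like sizes have even centralisers: impossible. -/
theorem Two.false_of_even (X : Ctx G) (T : Two G a b c d) (hcd : c ∣ d) (hc : ¬ 2 ∣ c) (hd : 2 ∣ d)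
    {w₀ : G} {k : ℕ} (hw₀ : orderOf w₀ = 2 ^ k) (hw₀d : cix w₀ = d) : False := by
  classical
  haveI := Fact.mk Nat.prime_two
  obtain ⟨x, p, hp, hxo, hx⟩ := T.exists_x X
  set H := Subgroup.centralizer ({x} : Set G) with hH
  have hp2 : p ≠ 2 := fun e => by
    rcases T.cix_involution X (hxo.trans e) with h | h <;> rw [hx] at h
    exacts [T.nac h, T.nad h]
  have hcox : ∀ {u : G} {j : ℕ}, orderOf u = 2 ^ j → (orderOf u).Coprime (orderOf x) := fun {u j} hu => by
    rw [hu, hxo]; exact ((Nat.coprime_primes Nat.prime_two hp).2 hp2.symm).pow_left j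
  have hd_max : ∀ {u : G}, u ≠ 1 → d ∣ cix u → cix u = d := fun {u} hu h => by
    rcases T.of_c_dvd hu (hcd.trans h) with e | e
    · exact absurd (Nat.dvd_antisymm hcd (e ▸ h)) T.ncd
    · exact e
  -- with a Sylow subgroup in its centraliser a product keeps the size `c`
  have hkeep : ∀ {u v : G}, u ≠ 1 → cix u = c → Commute u v → (orderOf u).Coprime (orderOf v) →
      ∀ P : Sylow 2 G, (P : Subgroup G) ≤ Subgroup.centralizer ({u} : Set G) →
        (P : Subgroup G) ≤ Subgroup.centralizer ({v} : Set G) →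
        Subgroup.centralizer ({u} : Set G) ≤ Subgroup.centralizer ({v} : Set G) := by
    intro u v hu huc huv hco P hPu hPv
    have hle := centralizer_mul_le huv hco
    rcases T.of_c_dvd (mul_ne_one' hco hu) (huc ▸ Subgroup.index_dvd_of_le hle) with e | e
    · rw [← eq_of_le_cix hle (e.trans huc.symm)]
      exact centralizer_mul_le' huv hco
    · exfalso
      refine P.not_dvd_index ((hd.trans e.symm.dvd).trans (Subgroup.index_dvd_of_le fun g hg => ?_))
      exact mem_cent.2 ((mem_cent.1 (hPu hg)).mul_right (mem_cent.1 (hPv hg)))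
  obtain ⟨Px, hPx⟩ := exists_sylow_le_centralizer (r := 2) (u := x) (fun h => T.odd_a X (hx ▸ h))
  -- centralisers of involutions of `H` lie in `H`
  have hin : ∀ w ∈ H, orderOf w = 2 → Subgroup.centralizer ({w} : Set G) ≤ H := by
    intro w hwH hwo
    have hw1 := ne_one_of_two hwo
    have hwx : Commute w x := mem_cent.1 hwH
    have hco := hcox (j := 1) (by rw [hwo, pow_one])
    rcases T.cix_involution X hwo with hw | hw
    · obtain ⟨P, hP⟩ := exists_sylow_le_centralizer (r := 2) (u := w) (hw.symm ▸ hc)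
      obtain ⟨g, hg⟩ := MulAction.exists_smul_eq G Px P
      have hx1 : (P : Subgroup G) ≤ Subgroup.centralizer ({g * x * g⁻¹} : Set G) := by
        intro q hq
        rw [← hg] at hq
        obtain ⟨q', hq', rfl⟩ := exists_of_mem_smul hq
        refine mem_cent.2 ?_
        show g * q' * g⁻¹ * (g * x * g⁻¹) = g * x * g⁻¹ * (g * q' * g⁻¹)
        calc g * q' * g⁻¹ * (g * x * g⁻¹) = g * (q' * x) * g⁻¹ := by group
          _ = g * (x * q') * g⁻¹ := by rw [(mem_cent.1 (hPx hq')).eq]
          _ = g * x * g⁻¹ * (g * q' * g⁻¹) := by group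
      have hle := hkeep hw1 hw (mem_cent.1 (hx1 (mem_sylow_of_le hwo hP)))
        (by rw [hwo, ← MulAut.conj_apply, MulEquiv.orderOf_eq, ← hwo]; exact hco) P hP hx1
      have hg' : g⁻¹ ∈ H := T.isolated X hx (u := g⁻¹) (by
        rw [inv_inv, mem_cent]
        exact (mem_cent.1 (hle (mem_cent.2 hwx.symm))).symm)
      have hgx : g * x * g⁻¹ = x := by
        have := mem_cent.1 (inv_mem hg')
        rw [inv_inv] at this
        rw [this.eq, mul_inv_cancel_right]
      rwa [hgx] at hle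
    · have hle := centralizer_mul_le hwx hco
      rw [← eq_of_le_cix hle ((hd_max (mul_ne_one' hco hw1) (hw ▸ Subgroup.index_dvd_of_le hle)).trans hw.symm)]
      exact centralizer_mul_le' hwx hco
  -- an involution of size `c` in `H`
  have h2G : 2 ∣ Nat.card G := hd.trans (hw₀d ▸ cix_dvd_card w₀)
  obtain ⟨t, htP, hto, -, htnd⟩ := exists_center 2 h2G Px
  have htH : t ∈ H := hPx htP
  have htc : cix t = c := (T.cix_involution X hto).resolve_right fun e => htnd (e ▸ hd)
  have hCt := hin t htH hto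
  set t' : H := ⟨t, htH⟩
  have hJH : cl t ∩ (H : Set G) = H.subtype '' cl t' := by
    ext j
    constructor
    · rintro ⟨hj, hjH⟩
      obtain ⟨g, rfl⟩ := isConj_iff.1 hj
      have h1 : g⁻¹ * x * g ∈ Subgroup.centralizer ({t} : Set G) := by
        have h2 := mem_cent.1 hjH
        rw [mem_cent]
        show g⁻¹ * x * g * t = t * (g⁻¹ * x * g)
        calc g⁻¹ * x * g * t = g⁻¹ * (x * (g * t * g⁻¹)) * g := by group
          _ = g⁻¹ * (g * t * g⁻¹ * x) * g := by rw [h2.eq]
          _ = t * (g⁻¹ * x * g) := by group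
      have hg : g ∈ H := T.isolated X hx (hCt h1)
      exact ⟨⟨g * t * g⁻¹, hjH⟩, isConj_iff.2 ⟨⟨g, hg⟩, Subtype.ext rfl⟩, rfl⟩
    · rintro ⟨j', hj', rfl⟩
      obtain ⟨g, rfl⟩ := isConj_iff.1 hj'
      exact ⟨isConj_iff.2 ⟨(g : G), rfl⟩, (g * t' * g⁻¹).2⟩
  set n := (cl t ∩ (H : Set G)).ncard with hn
  have hn' : n * a = c := by
    have h1 : n = cix t' := by rw [hn, hJH, Set.ncard_image_of_injective _ H.subtype_injective, ncard_cl]
    have h2 := cix_sub H t'
    rw [← h1, show H.index = a from hx, inf_eq_right.2 hCt] at h2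
    exact h2.trans htc
  have hn2 : 2 ≤ n := by
    have hc0 : c ≠ 0 := htc ▸ (cix_pos t).ne'
    by_contra hlt
    rcases (by omega : n = 0 ∨ n = 1) with h | h
    · rw [h, zero_mul] at hn'
      exact hc0 hn'.symm
    · rw [h, one_mul] at hn'
      exact T.nac hn'
  set J := cl t \ (H : Set G) with hJ
  have hJc : J.ncard + n = c := by
    rw [hJ, hn, add_comm, Set.ncard_inter_add_ncard_diff_eq_ncard _ _ (Set.toFinite _), ncard_cl, htc]
  have hmaps : ∀ s ∈ J, ((s : G ⧸ H)) ∈ (Set.univ \ {((1 : G) : G ⧸ H)} : Set (G ⧸ H)) := by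
    intro s hs
    refine ⟨Set.mem_univ _, fun h1 => hs.2 ?_⟩
    have := QuotientGroup.eq.1 (Set.mem_singleton_iff.1 h1)
    simpa using H.inv_mem this
  have hlt : (Set.univ \ {((1 : G) : G ⧸ H)} : Set (G ⧸ H)).ncard < J.ncard := by
    rw [Set.ncard_diff (Set.subset_univ _) (Set.toFinite _), Set.ncard_univ, Set.ncard_singleton,
      ← Subgroup.index_eq_card, show H.index = a from hx]
    obtain ⟨a', rfl⟩ : ∃ a', a = a' + 2 := ⟨a - 2, by have := T.ha; omega⟩
    have h5 : 2 * (a' + 1) ≤ n * (a' + 1) := Nat.mul_le_mul_right _ hn2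
    have h6 : n * (a' + 2) = n * (a' + 1) + n := by ring
    omega
  obtain ⟨s, hs, s', hs', hne, hss⟩ := Set.exists_ne_map_eq_of_ncard_lt_of_maps_to hlt hmaps (Set.toFinite _)
  have hso : ∀ {r : G}, r ∈ J → orderOf r = 2 := fun {r} hr => by
    obtain ⟨g, rfl⟩ := isConj_iff.1 hr.1
    rw [show g * t * g⁻¹ = MulAut.conj g t from rfl, MulEquiv.orderOf_eq, hto]
  have hsi : s⁻¹ = s := inv_eq_of_mul_eq_one_right (by rw [← pow_two, ← hso hs, pow_orderOf_eq_one])
  have hs'i : s'⁻¹ = s' := inv_eq_of_mul_eq_one_right (by rw [← pow_two, ← hso hs', pow_orderOf_eq_one])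
  have hdH : s * s' ∈ H := by
    have := QuotientGroup.eq.1 hss
    rwa [hsi] at this
  set e₀ := s * s' with he₀
  have he1 : e₀ ≠ 1 := fun h1 => hne (by
    have := eq_inv_of_mul_eq_one_left h1
    rwa [hs'i] at this)
  have hsd : s * e₀ * s⁻¹ = e₀⁻¹ := by
    rw [he₀, mul_inv_rev, hs'i, hsi, ← mul_assoc s s s', show s * s = 1 from by
      rw [← pow_two, ← hso hs, pow_orderOf_eq_one], one_mul]
  have hex : Commute e₀ x := mem_cent.1 hdH
  -- the centraliser of `e₀` is in `H`
  suffices hle : Subgroup.centralizer ({e₀} : Set G) ≤ H by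
    have h1 : s * x * s⁻¹ ∈ Subgroup.centralizer ({e₀} : Set G) := by
      have h2 : s * e₀⁻¹ * s⁻¹ = e₀ := by rw [← conj_inv, hsd, inv_inv]
      refine mem_cent.2 ?_
      show s * x * s⁻¹ * e₀ = e₀ * (s * x * s⁻¹)
      nth_rewrite 1 [← h2]
      nth_rewrite 2 [← h2]
      calc s * x * s⁻¹ * (s * e₀⁻¹ * s⁻¹) = s * (x * e₀⁻¹) * s⁻¹ := by group
        _ = s * (e₀⁻¹ * x) * s⁻¹ := by rw [(hex.symm.inv_right).eq]
        _ = s * e₀⁻¹ * s⁻¹ * (s * x * s⁻¹) := by group
    have h3 : s⁻¹ ∈ H := T.isolated X hx (u := s⁻¹) (by rw [inv_inv]; exact hle h1)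
    exact hs.2 (inv_inv s ▸ inv_mem h3)
  have hcd' : cix e₀ = c ∨ cix e₀ = d := by
    rcases T.mem e₀ he1 with h | h | h | h
    · exfalso
      have h1 : s ∈ Subgroup.centralizer ({e₀} : Set G) := by
        refine T.isolated X h ?_
        rw [hsi]
        nth_rewrite 2 [← hsi]
        rw [hsd, mem_cent]
        exact (Commute.refl e₀).inv_left
      have h2 : e₀⁻¹ = e₀ := by rw [← hsd, (mem_cent.1 h1).eq, mul_inv_cancel_right]
      have h3 : orderOf e₀ = 2 := orderOf_eq_prime (by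
        rw [pow_two]
        nth_rewrite 1 [← h2]
        exact inv_mul_cancel e₀) he1
      rcases T.cix_involution X h3 with h4 | h4 <;> rw [h] at h4
      exacts [T.nac h4, T.nad h4]
    · exact absurd hex.symm (T.ncomm X hx h)
    · exact Or.inl h
    · exact Or.inr h
  -- it is enough to find an involution centralised by `C(e₀)`
  suffices hw : ∃ w, orderOf w = 2 ∧ Subgroup.centralizer ({e₀} : Set G) ≤ Subgroup.centralizer ({w} : Set G) by
    obtain ⟨w, hwo, hle⟩ := hw
    exact hle.trans (hin w (mem_cent.2 (mem_cent.1 (hle (mem_cent.2 hex.symm))).symm) hwo)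
  by_cases h2 : 2 ∣ orderOf e₀
  · exact ⟨_, orderOf_pow_orderOf_div (orderOf_pos e₀).ne' h2, centralizer_le_pow e₀ _⟩
  have hco : ∀ {w : G}, orderOf w = 2 → (orderOf e₀).Coprime (orderOf w) := fun {w} hw => by
    rw [hw]; exact ((Nat.prime_two.coprime_iff_not_dvd).2 h2).symm
  rcases hcd' with h | h
  · obtain ⟨P, hP⟩ := exists_sylow_le_centralizer (r := 2) (u := e₀) (h.symm ▸ hc)
    obtain ⟨z, hzP, hzo, hzc, -⟩ := exists_center 2 h2G P
    exact ⟨z, hzo, hkeep he1 h (mem_cent.1 (hP hzP)).symm (hco hzo) P hP fun q hq => mem_cent.2 (hzc q hq)⟩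
  · obtain ⟨w, hw, hwo⟩ := exists_involution_mem (K := Subgroup.centralizer ({e₀} : Set G)) (by
      have h1 := card_mul_cix e₀
      rw [h, ← card_mul_cix w₀, hw₀d] at h1
      rw [Nat.eq_of_mul_eq_mul_right (hw₀d ▸ cix_pos w₀) h1]
      have hw₀1 : w₀ ≠ 1 := T.ne_one_of (Or.inr (Or.inr (Or.inr hw₀d)))
      exact (dvd_pow_self 2 fun e => hw₀1 (orderOf_eq_one_iff.1 (by rw [hw₀, e, pow_zero]))).trans
        (hw₀ ▸ Subgroup.orderOf_dvd_natCard _ (self_mem w₀)))
    have hle := centralizer_mul_le (mem_cent.1 hw).symm (hco hwo)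
    refine ⟨w, hwo, ?_⟩
    rw [← eq_of_le_cix hle ((hd_max (mul_ne_one' (hco hwo) he1) (h ▸ Subgroup.index_dvd_of_le hle)).trans h.symm)]
    exact centralizer_mul_le' (mem_cent.1 hw).symm (hco hwo)

theorem Two.good_c (X : Ctx G) (T : Two G a b c d) {t : G} (ht : orderOf t = 2) (htc : cix t = c) : Good t := by
  haveI := Fact.mk Nat.prime_two
  have ht1 := ne_one_of_two ht
  by_cases hcd : c ∣ d
  swap
  · refine good_of_max ht fun w hw hd => ?_
    rw [htc] at hd ⊢
    exact (T.of_c_dvd hw hd).resolve_right fun e => hcd (e ▸ hd)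
  obtain ⟨v, -, hv⟩ := T.exD
  obtain ⟨k, hk⟩ := hcd
  have hk1 : 1 < k := by
    rcases Nat.lt_or_ge 1 k with h | h
    · exact h
    interval_cases k
    · exact absurd (hk.trans (mul_zero _)) (hv ▸ (cix_pos v).ne')
    · exact absurd (hk.trans (mul_one _)).symm T.ncd
  have V := vals_of ht (v := v) (by rw [hv, htc, hk]) hk1 fun w hw hd => by
    rw [htc, hv]; exact T.of_c_dvd hw (htc ▸ hd)
  refine ⟨V.solvable, ?_⟩
  by_cases hd : 2 ∣ d
  swap
  · exact Or.inl (V.hnc_of_odd fun h => hd (hk ▸ h.mul_left c))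
  -- the size `c` is odd
  have hc : ¬ 2 ∣ c := by
    obtain ⟨P, z, -, hzo, -, hznd⟩ := exists_central (G := G) 2 (ht ▸ orderOf_dvd_natCard t)
    exact fun h => hznd (((T.cix_involution X hzo).resolve_right fun e => hznd (e ▸ hd)) ▸ h)
  by_cases hw : ∃ (w : G) (j : ℕ), orderOf w = 2 ^ j ∧ cix w = d
  · obtain ⟨w, j, hw, hwd⟩ := hw
    exact (T.false_of_even X (Dvd.intro k hk.symm) hc hd hw hwd).elim
  push Not at hw
  refine Or.inr fun P => Cfsg.Agent.S4355.result (fun w ⟨j, hj⟩ => ?_) P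
  show ¬ 2 ∣ cix w
  by_cases hw1 : w = 1
  · rw [hw1, cix_one]; omega
  obtain ⟨i, hio, -, hle⟩ := exists_root Nat.prime_two hw1 hj
  have hdv : cix i ∣ cix w := Subgroup.index_dvd_of_le hle
  have hci : c ∣ cix i := by
    rcases T.cix_involution X hio with e | e <;> rw [e]
    exact Dvd.intro k hk.symm
  rw [(T.of_c_dvd hw1 (hci.trans hdv)).resolve_right (hw w j hj)]
  exact hc

theorem Two.good (X : Ctx G) (T : Two G a b c d) {t : G} (ht : orderOf t = 2) : Good t := by
  rcases T.cix_involution X ht with h | h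
  · exact T.good_c X ht h
  · exact T.symm.good_c X ht h

end Cfsg.Agent.Transfer.ConjRankFour
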