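import Cfsg.Agent.Lib.Transfer.ConjRankFour.Flat
import Cfsg.Agent.Lib.Transfer.ConjRankFour.TwoCase
import Cfsg.Agent.Lib.Transfer.ConjRankFour.Models
import Cfsg.Agent.Lib.Classical.PSLBinary
import Cfsg.Agent.Lib.Classical.SLNormal
import Cfsg.Agent.S2508
import Cfsg.Agent.S3188
import Cfsg.Agent.S3214

/-!
Simple groups of conjugate type rank four.
-/

set_option autoImplicit false
set_option linter.style.haveILetI false
set_option linter.unusedSectionVars false
set_option maxHeartbeats 1000000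

universe u

namespace Cfsg.Agent.Transfer.ConjRankFour

open Cfsg Cfsg.Agent Cfsg.Agent.Transfer.ClassDisconnected Cfsg.Agent.Transfer.ConjRankThree

variable {G : Type u} [Group G] [Finite G] [IsSimpleGroup G]

/-- With non-abelian Sylow `2`-subgroups three odd centraliser orders give five class sizes. -/
theorem Ctx.not_threeOdd (X : Ctx G) (hS : ¬ SAb G) : ¬ ThreeOdd G := by
  rintro ⟨u₁, u₂, u₃, o1, o2, o3, h12, h13, h23⟩
  haveI := Fact.mk Nat.prime_two
  rw [← Nat.not_even_iff_odd, even_iff_two_dvd] at o1 o2 o3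
  obtain ⟨w, j, hw, hw2⟩ : ∃ (w : G) (j : ℕ), orderOf w = 2 ^ j ∧ 2 ∣ cix w := by
    by_contra hc
    push Not at hc
    exact hS fun P => Cfsg.Agent.S4355.result (fun w ⟨j, hj⟩ => hc w j hj) P
  have hw1 : w ≠ 1 := fun e => by rw [e, cix_one] at hw2; omega
  have h2G : 2 ∣ Nat.card G := hw2.trans (cix_dvd_card w)
  obtain ⟨-, z, -, hzo, -, hz2⟩ := exists_central (G := G) 2 h2G
  have hz1 : z ≠ 1 := ne_one_of_two hzo
  have heven : ∀ {u : G}, ¬ 2 ∣ Nat.card (Subgroup.centralizer ({u} : Set G)) → 2 ∣ cix u := fun {u} h => by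
    rw [← card_mul_cix u] at h2G
    exact (Nat.prime_two.dvd_mul.1 h2G).resolve_left h
  have hne : ∀ {u : G}, ¬ 2 ∣ Nat.card (Subgroup.centralizer ({u} : Set G)) → cix w ≠ cix u := fun {u} h e => by
    have h1 := card_mul_cix w
    rw [e, ← card_mul_cix u] at h1
    refine h (Nat.eq_of_mul_eq_mul_right (cix_pos u) h1 ▸ ?_)
    have hj0 : j ≠ 0 := fun e' => hw1 (orderOf_eq_one_iff.1 (by rw [hw, e', pow_zero]))
    exact (dvd_pow_self 2 hj0).trans (hw ▸ Subgroup.orderOf_dvd_natCard _ (self_mem w))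
  have hn : ∀ {u : G}, ¬ 2 ∣ Nat.card (Subgroup.centralizer ({u} : Set G)) → u ≠ 1 := fun {u} h e =>
    h (by
      subst e
      rw [show Subgroup.centralizer ({1} : Set G) = ⊤ from
        top_le_iff.1 fun g _ => mem_cent.2 (Commute.one_right g), Subgroup.card_top]
      exact h2G)
  have hd : ∀ {u v : G}, Nat.card (Subgroup.centralizer ({u} : Set G)) ≠
      Nat.card (Subgroup.centralizer ({v} : Set G)) → cix u ≠ cix v := fun {u v} h e => h (by
    have h1 := card_mul_cix u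
    rw [e, ← card_mul_cix v] at h1
    exact Nat.eq_of_mul_eq_mul_right (cix_pos v) h1)
  have hnd : [cix u₁, cix u₂, cix u₃, cix z].Nodup := by
    simp only [List.nodup_cons, List.mem_cons, List.not_mem_nil, or_false, not_or, List.nodup_nil, and_true,
      not_false_eq_true]
    exact ⟨⟨hd h12, hd h13, fun e => hz2 (e ▸ heven o1)⟩, ⟨hd h23, fun e => hz2 (e ▸ heven o2)⟩,
      fun e => hz2 (e ▸ heven o3)⟩
  rcases X.mem_four (hn o1) (hn o2) (hn o3) hz1 hnd hw1 with e | e | e | e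
  exacts [hne o1 e, hne o2 e, hne o3 e, hz2 (e ▸ hw2)]

theorem good (X : Ctx G) {t : G} (ht : orderOf t = 2) : Good t := by
  rcases X.flat_or_two with F | ⟨a, b, c, d, T⟩
  · exact F.good (F.sep X) ht
  · exact T.good X ht

theorem psl_five_binary {E : Type} [Field E] [Fintype E] (hE : Fintype.card E = 5) :
    ∃ (F : Type) (_ : Field F) (_ : Fintype F), Fintype.card F = 2 ^ 2 ∧
      Nonempty (Matrix.ProjectiveSpecialLinearGroup (Fin 2) E ≃* Matrix.ProjectiveSpecialLinearGroup (Fin 2) F) := by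
  letI : Fintype (GaloisField 2 2) := Fintype.ofFinite _
  have hF : Fintype.card (GaloisField 2 2) = 2 ^ 2 := by
    rw [← Nat.card_eq_fintype_card]; exact GaloisField.card 2 2 (by norm_num)
  haveI : IsSimpleGroup (Matrix.ProjectiveSpecialLinearGroup (Fin 2) (GaloisField 2 2)) :=
    Classical.PSL_isSimple le_rfl fun _ => by rw [hF]; norm_num
  have hcard : Nat.card (Matrix.ProjectiveSpecialLinearGroup (Fin 2) (GaloisField 2 2)) = 60 := by
    have hG := Dickson.card_psl (F := GaloisField 2 2)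
    rw [show Dickson.del (GaloisField 2 2) = 1 by simp [Dickson.del, hF], mul_one, hF] at hG
    exact hG.trans (by norm_num)
  obtain ⟨e₁⟩ := PSLBin.psl_five_iso hE
  obtain ⟨e₂⟩ := Fus.alternating_five_of_card hcard
  exact ⟨_, inferInstance, inferInstance, hF, ⟨e₁.trans e₂.symm⟩⟩

/-- The forward direction. -/
theorem forward (X : Ctx G) : ∃ (F : Type) (_ : Field F) (_ : Fintype F), Odd (Fintype.card F) ∧
    7 ≤ Fintype.card F ∧ Nonempty (G ≃* Matrix.ProjectiveSpecialLinearGroup (Fin 2) F) := by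
  classical
  have fin : ∀ (F : Type) (_ : Field F) (_ : Fintype F), 3 < Fintype.card F →
      (G ≃* Matrix.ProjectiveSpecialLinearGroup (Fin 2) F) → Odd (Fintype.card F) ∧ 7 ≤ Fintype.card F := by
    intro F _ _ h3 e
    rcases Nat.even_or_odd (Fintype.card F) with hev | hodd
    · exfalso
      obtain ⟨n, hp, hn⟩ := FiniteField.card F (ringChar F)
      haveI := Fact.mk hp
      have h2 : ringChar F = 2 := ((Nat.prime_dvd_prime_iff_eq Nat.prime_two hp).1
        (Nat.prime_two.dvd_of_dvd_pow (hn ▸ hev.two_dvd))).symm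
      rw [h2] at hn
      refine X.not_psl_even ?_ hn e
      by_contra hlt
      have h1 : (n : ℕ) = 1 := by have := n.pos; omega
      rw [hn, h1] at h3
      omega
    · refine ⟨hodd, ?_⟩
      by_contra hlt
      have h5 : Fintype.card F = 5 := by rw [Nat.odd_iff] at hodd; omega
      obtain ⟨F', iF, iFin, hF', ⟨e'⟩⟩ := psl_five_binary h5
      exact X.not_psl_even le_rfl hF' (e.trans e')
  by_cases hS : SAb G
  · obtain ⟨S⟩ : Nonempty (Sylow 2 G) := inferInstance
    rcases Cfsg.Agent.S3188.result S (hS S) (fun t ht => (good X ht).1) with hsol |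
      ⟨F, iF, iFin, hcases, N, hN, ⟨e⟩, hcent⟩
    · exact absurd ⟨⟨fun a b => IsSimpleGroup.comm_iff_isSolvable.mpr hsol a b⟩⟩ X.hna
    haveI : (Cfsg.oddCore G).Normal := Grp.pPrimeCore_isNormal
    have hO : Cfsg.oddCore G = ⊥ := by
      rcases (inferInstance : (Cfsg.oddCore G).Normal).eq_bot_or_eq_top with h | h
      · exact h
      · exfalso
        refine X.hna ⟨⟨fun a b => IsSimpleGroup.comm_iff_isSolvable.mpr ?_ a b⟩⟩
        have h1 : (Nat.card G).Coprime 2 := by
          have := Grp.pPrimeCore_coprime (G := G) (p := 2)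
          rwa [show Cfsg.pPrimeCore 2 G = ⊤ from h, Subgroup.card_top] at this
        exact Cfsg.Agent.S0205.result (Nat.coprime_two_right.1 h1)
    let q : G ⧸ Cfsg.oddCore G ≃* G :=
      (QuotientGroup.quotientMulEquivOfEq hO).trans QuotientGroup.quotientBot
    haveI : IsSimpleGroup (G ⧸ Cfsg.oddCore G) := q.isSimpleGroup
    have hNtop : N = ⊤ := by
      rcases hN.eq_bot_or_eq_top with h | h
      · exfalso
        refine (top_ne_bot : (⊤ : Subgroup (G ⧸ Cfsg.oddCore G)) ≠ ⊥) ?_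
        rw [← hcent, h]
        exact (top_le_iff.1 fun g _ => Subgroup.mem_centralizer_iff.2 fun x hx => by
          rw [Subgroup.mem_bot.1 hx, one_mul, mul_one]).symm
      · exact h
    let e' : G ≃* Matrix.ProjectiveSpecialLinearGroup (Fin 2) F :=
      (q.symm.trans (Subgroup.topEquiv.symm.trans (MulEquiv.subgroupCongr hNtop.symm))).trans e
    have h3 : 3 < Fintype.card F := by
      rcases hcases with ⟨-, h⟩ | ⟨n, hn, h⟩
      · omega
      · rw [h]; exact lt_of_lt_of_le (by norm_num) (Nat.pow_le_pow_right (by norm_num) hn)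
    obtain ⟨h1, h2⟩ := fin F iF iFin h3 e'
    exact ⟨F, iF, iFin, h1, h2, ⟨e'⟩⟩
  · rcases Cfsg.Agent.S3214.result X.hna (fun t ht => (good X ht).2.resolve_right hS) with
      ⟨F, iF, iFin, h3, ⟨e⟩⟩ | hSz | ⟨⟨e⟩⟩ | ⟨F, iF, iFin, hF, ⟨e⟩⟩
    · obtain ⟨h1, h2⟩ := fin F iF iFin h3 e
      exact ⟨F, iF, iFin, h1, h2, ⟨e⟩⟩
    · exact (X.not_threeOdd hS (threeOdd_suzuki hSz)).elim
    · exact (X.not_threeOdd hS (threeOdd_seven e)).elim
    · exact (X.not_threeOdd hS (threeOdd_psl hF e)).elim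

omit [IsSimpleGroup G] in
/-- The reverse direction. -/
theorem reverse {F : Type} [Field F] [Fintype F] (hodd : Odd (Fintype.card F)) (h7 : 7 ≤ Fintype.card F)
    (e : G ≃* Matrix.ProjectiveSpecialLinearGroup (Fin 2) F) :
    IsSimpleGroup G ∧ Ctx G := by
  classical
  haveI : IsSimpleGroup (Matrix.ProjectiveSpecialLinearGroup (Fin 2) F) :=
    Classical.PSL_isSimple le_rfl fun _ => by omega
  haveI hs : IsSimpleGroup G := e.isSimpleGroup
  have h2508 := Cfsg.Agent.S2508.result (F := F) (by rw [Nat.odd_iff] at hodd; omega) h7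
  set P := Matrix.ProjectiveSpecialLinearGroup (Fin 2) F
  set R := Set.range fun g : P => (Subgroup.centralizer ({g} : Set P)).index
  obtain ⟨k, hk⟩ := hodd
  set q := Fintype.card F with hq
  have hk3 : 3 ≤ k := by omega
  have e1 : (q ^ 2 - 1) / 2 = 2 * (k * (k + 1)) := by
    rw [hk, show (2 * k + 1) ^ 2 = 2 * (2 * (k * (k + 1))) + 1 by ring, Nat.add_sub_cancel, Nat.mul_div_cancel_left _ two_pos]
  have e2 : q * (q + 1) / 2 = (2 * k + 1) * (k + 1) := by
    rw [hk, show (2 * k + 1) * (2 * k + 1 + 1) = 2 * ((2 * k + 1) * (k + 1)) by ring, Nat.mul_div_cancel_left _ two_pos]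
  have e3 : q * (q - 1) / 2 = (2 * k + 1) * k := by
    rw [hk, Nat.add_sub_cancel, show (2 * k + 1) * (2 * k) = 2 * ((2 * k + 1) * k) by ring, Nat.mul_div_cancel_left _ two_pos]
  have e4 : q * (q - 1) = 2 * ((2 * k + 1) * k) := by rw [hk, Nat.add_sub_cancel]; ring
  have e5 : q * (q + 1) = 2 * ((2 * k + 1) * (k + 1)) := by rw [hk]; ring
  obtain ⟨A, B, C, D, hR, hA, hB, hC, hD, hAB, hAC, hAD, hBC, hBD, hCD⟩ :
      ∃ A B C D : ℕ, R = {1, A, B, C, D} ∧ 1 < A ∧ 1 < B ∧ 1 < C ∧ 1 < D ∧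
        A ≠ B ∧ A ≠ C ∧ A ≠ D ∧ B ≠ C ∧ B ≠ D ∧ C ≠ D := by
    rcases (by omega : q % 4 = 1 ∨ q % 4 = 3) with h | h
    · refine ⟨_, _, _, _, h2508.1 h, ?_⟩
      rw [e1, e2, e4, e5]
      refine ⟨?_, ?_, ?_, ?_, ?_, ?_, ?_, ?_, ?_, ?_⟩ <;> nlinarith
    · refine ⟨_, _, _, _, h2508.2 h, ?_⟩
      rw [e1, e3, e4, e5]
      refine ⟨?_, ?_, ?_, ?_, ?_, ?_, ?_, ?_, ?_, ?_⟩ <;> nlinarith
  have htr : ∀ w : G, (Subgroup.centralizer ({e w} : Set P)).index = cix w := by
    intro w
    rw [cix, ← Subgroup.index_map_equiv (Subgroup.centralizer ({w} : Set G)) e]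
    congr 1
    ext p
    rw [Subgroup.mem_map]
    refine ⟨fun hp => ⟨e.symm p, ?_, e.apply_symm_apply p⟩, ?_⟩
    · rw [mem_cent] at hp ⊢
      simpa using hp.map e.symm.toMonoidHom
    · rintro ⟨g, hg, rfl⟩
      rw [mem_cent] at hg ⊢
      exact hg.map e.toMonoidHom
  have hAR : A ∈ R := by rw [hR]; simp
  obtain ⟨g, hg⟩ := hAR
  have hna : ¬ IsMulCommutative G := fun hc => by
    have h1 : cix (e.symm g) = A := by rw [← htr, e.apply_symm_apply]; exact hg
    rw [cix_eq_one.2 (Subgroup.mem_center_iff.2 fun x => hc.is_comm.comm x _)] at h1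
    omega
  refine ⟨hs, hna, ?_⟩
  have hI : {m : ℕ | ∃ w : G, w ≠ 1 ∧ m = cix w} = {A, B, C, D} := by
    ext m
    constructor
    · rintro ⟨w, hw, rfl⟩
      have h1 : cix w ∈ R := ⟨e w, htr w⟩
      rw [hR] at h1
      exact (Set.mem_insert_iff.1 h1).resolve_left (cix_ne_one hna hw)
    · intro hm
      obtain ⟨p, hp⟩ : m ∈ R := by rw [hR]; exact Set.mem_insert_of_mem _ hm
      have hm1 : 1 < m := by rcases hm with rfl | rfl | rfl | rfl <;> assumption
      have h1 : cix (e.symm p) = m := by rw [← htr, e.apply_symm_apply]; exact hp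
      exact ⟨e.symm p, ne_one_of_cix (by omega), h1.symm⟩
  rw [hI, Set.ncard_insert_of_notMem (by simp [hAB, hAC, hAD]) (Set.toFinite _),
    Set.ncard_insert_of_notMem (by simp [hBC, hBD]) (Set.toFinite _), Set.ncard_pair hCD]

end Cfsg.Agent.Transfer.ConjRankFour
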