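import Cfsg.Agent.Lib.Transfer.ConjRankThree.Basic

/-!
Simple groups with four class sizes: the two shapes of the divisibility order on the sizes.
-/

set_option autoImplicit false
set_option linter.style.haveILetI false
set_option maxHeartbeats 1000000

open scoped Pointwise

universe u

namespace Cfsg.Agent.Transfer.ConjRankFour

open Cfsg Cfsg.Agent Cfsg.Agent.Transfer.ClassDisconnected Cfsg.Agent.Transfer.ConjRankThree

variable {G : Type u} [Group G] [Finite G]

/-- Non-abelian, with exactly four class sizes of nontrivial elements. -/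
structure Ctx (G : Type u) [Group G] : Prop where
  hna : ¬ IsMulCommutative G
  four : Set.ncard {m : ℕ | ∃ w : G, w ≠ 1 ∧ m = cix w} = 4

/-- No class size is a proper multiple of the class size of `u`. -/
def MaxS (u : G) : Prop := ∀ w : G, w ≠ 1 → cix u ∣ cix w → cix w = cix u

/-- `u` has a class size properly dividing that of `v`. -/
structure Below (u v : G) : Prop where
  hu : u ≠ 1
  hv : v ≠ 1
  dvd : cix u ∣ cix v
  ne : cix u ≠ cix v

/-- Every class size has at most one proper multiple. -/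
def Flat (G : Type u) [Group G] : Prop :=
  ∀ u v w : G, Below u v → Below u w → cix v = cix w

/-- Two sizes below different sizes are coprime. -/
structure Sep (G : Type u) [Group G] : Prop where
  hna : ¬ IsMulCommutative G
  apart : ∀ {u v w n : G}, Below u v → Below w n → cix v ≠ cix n → (cix u).Coprime (cix w)

/-- Four sizes, the first with two proper multiples and prime to the second. -/
structure Two (G : Type u) [Group G] (a b c d : ℕ) : Prop where
  mem : ∀ w : G, w ≠ 1 → cix w = a ∨ cix w = b ∨ cix w = c ∨ cix w = d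
  exA : ∃ w : G, w ≠ 1 ∧ cix w = a
  exB : ∃ w : G, w ≠ 1 ∧ cix w = b
  exC : ∃ w : G, w ≠ 1 ∧ cix w = c
  exD : ∃ w : G, w ≠ 1 ∧ cix w = d
  adc : a ∣ c
  add : a ∣ d
  cop : a.Coprime b
  nac : a ≠ c
  nad : a ≠ d
  ncd : c ≠ d
  ha : 1 < a
  hb : 1 < b

theorem Two.symm {a b c d : ℕ} (T : Two G a b c d) : Two G a b d c :=
  ⟨fun w hw => by rcases T.mem w hw with h | h | h | h <;> tauto, T.exA, T.exB, T.exD, T.exC, T.add, T.adc,
    T.cop, T.nad, T.nac, T.ncd.symm, T.ha, T.hb⟩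

theorem inf_eq_centralizer_mul {u v : G} (h : Commute u v) (hc : (orderOf u).Coprime (orderOf v)) :
    Subgroup.centralizer ({u * v} : Set G) =
      Subgroup.centralizer ({u} : Set G) ⊓ Subgroup.centralizer ({v} : Set G) :=
  le_antisymm (le_inf (centralizer_mul_le h hc) (centralizer_mul_le' h hc)) fun _ hg =>
    mem_cent.2 ((mem_cent.1 hg.1).mul_right (mem_cent.1 hg.2))

theorem cix_one : cix (1 : G) = 1 := cix_eq_one.2 (one_mem _)

theorem ne_one_of_cix {u : G} (h : cix u ≠ 1) : u ≠ 1 := fun e => h (e ▸ cix_one)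

theorem cix_dvd_card (u : G) : cix u ∣ Nat.card G := Subgroup.index_dvd_card _

theorem cix_sub (C : Subgroup G) (u : C) :
    cix u * C.index = (C ⊓ Subgroup.centralizer ({(u : G)} : Set G)).index := by
  have e : Subgroup.centralizer ({u} : Set C) = (Subgroup.centralizer ({(u : G)} : Set G)).subgroupOf C := by
    ext g
    rw [Subgroup.mem_subgroupOf, mem_cent, mem_cent]
    exact ⟨fun h => congrArg Subtype.val h.eq, fun h => Subtype.ext h⟩
  rw [cix, e, ← Subgroup.relIndex, ← Subgroup.inf_relIndex_left C,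
    Subgroup.relIndex_mul_index (inf_le_left : C ⊓ Subgroup.centralizer ({(u : G)} : Set G) ≤ C)]

theorem cix_sub_mul {x : G} (u : Subgroup.centralizer ({x} : Set G))
    (hc : (orderOf x).Coprime (orderOf (u : G))) : cix u * cix x = cix (x * (u : G)) := by
  rw [cix_sub (Subgroup.centralizer ({x} : Set G)) u]
  exact congrArg Subgroup.index (inf_eq_centralizer_mul (mem_cent.1 u.2).symm hc).symm

/-- An element of prime power order has a power of prime order. -/
theorem exists_root {p k : ℕ} (hp : p.Prime) {w : G} (hw : w ≠ 1) (h : orderOf w = p ^ k) :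
    ∃ i : G, orderOf i = p ∧ i ∈ Subgroup.zpowers w ∧
      Subgroup.centralizer ({w} : Set G) ≤ Subgroup.centralizer ({i} : Set G) := by
  have hk : k ≠ 0 := fun e => hw (orderOf_eq_one_iff.1 (by rw [h, e, pow_zero]))
  exact ⟨w ^ (orderOf w / p), orderOf_pow_orderOf_div (orderOf_pos w).ne' (h ▸ dvd_pow_self p hk),
    pow_mem (Subgroup.mem_zpowers w) _, centralizer_le_pow w _⟩

theorem exists_sylow_mem {r k : ℕ} [Fact r.Prime] {f : G} (h : orderOf f = r ^ k) :
    ∃ P : Sylow r G, f ∈ (P : Subgroup G) := by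
  have hz : IsPGroup r (Subgroup.zpowers f) := IsPGroup.of_card (n := k) (by rw [Nat.card_zpowers, h])
  obtain ⟨P, hP⟩ := hz.exists_le_sylow
  exact ⟨P, hP (Subgroup.mem_zpowers f)⟩

theorem exists_center (r : ℕ) [Fact r.Prime] (hr : r ∣ Nat.card G) (P : Sylow r G) :
    ∃ z : G, z ∈ (P : Subgroup G) ∧ orderOf z = r ∧ (∀ q ∈ (P : Subgroup G), Commute q z) ∧ ¬ r ∣ cix z := by
  haveI : Nontrivial (P : Subgroup G) := (Subgroup.nontrivial_iff_ne_bot _).2 (P.ne_bot_of_dvd_card hr)
  haveI := P.isPGroup'.center_nontrivial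
  obtain ⟨k, hk, hck⟩ :=
    (P.isPGroup'.to_subgroup (Subgroup.center (P : Subgroup G))).nontrivial_iff_card.1 inferInstance
  obtain ⟨z, hz⟩ := exists_prime_orderOf_dvd_card' (G := Subgroup.center (P : Subgroup G)) r
    (by rw [hck]; exact dvd_pow_self r hk.ne')
  have hcom : ∀ q ∈ (P : Subgroup G), Commute q ((z : (P : Subgroup G)) : G) := fun q hq =>
    congrArg Subtype.val (Subgroup.mem_center_iff.1 z.2 ⟨q, hq⟩)
  refine ⟨z, z.1.2, by rw [Subgroup.orderOf_coe, Subgroup.orderOf_coe, hz], hcom, fun h => P.not_dvd_index ?_⟩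
  exact h.trans (Subgroup.index_dvd_of_le fun q hq => mem_cent.2 (hcom q hq))

theorem exists_conj_mem {r k : ℕ} [Fact r.Prime] {f x : G} (hf : orderOf f = r ^ k) (hx : ¬ r ∣ cix x) :
    ∃ g : G, g * f * g⁻¹ ∈ Subgroup.centralizer ({x} : Set G) := by
  obtain ⟨Q, hQ⟩ := exists_sylow_mem hf
  obtain ⟨P, hP⟩ := exists_sylow_le_centralizer hx
  obtain ⟨g, hg⟩ := MulAction.exists_smul_eq G Q P
  refine ⟨g, hP ?_⟩
  rw [← hg]
  show g * f * g⁻¹ ∈ MulAut.conj g • (Q : Subgroup G)
  rw [Frob.mem_smul_conj_iff]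
  simpa [mul_assoc] using hQ

variable [IsSimpleGroup G]

theorem one_lt_cix (hna : ¬ IsMulCommutative G) {w : G} (hw : w ≠ 1) : 1 < cix w := by
  have := cix_pos w
  have := cix_ne_one hna hw
  omega

theorem not_commute (hna : ¬ IsMulCommutative G) {x y : G} (hx : x ≠ 1) (hy : y ≠ 1)
    (hco : (cix x).Coprime (cix y)) : ¬ Commute x y := by
  intro hxy
  have hall : Subgroup.normalClosure ({y} : Set G) ≤ Subgroup.centralizer ({x} : Set G) := by
    rw [Subgroup.normalClosure, Subgroup.closure_le]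
    intro z hz
    obtain ⟨y', hy', hc⟩ := Group.mem_conjugatesOfSet_iff.1 hz
    rw [Set.mem_singleton_iff] at hy'
    subst hy'
    obtain ⟨g, rfl⟩ := isConj_iff.1 hc
    obtain ⟨p, hp, q, hq, rfl⟩ := Grp.HallConv.exists_mul_of_coprime hco.symm g
    rw [mem_cent] at hp hq
    rw [SetLike.mem_coe, mem_cent, show p * q * y' * (p * q)⁻¹ = p * (q * y' * q⁻¹) * p⁻¹ by group,
      hq.eq, mul_inv_cancel_right]
    exact (hp.mul_left hxy.symm).mul_left hp.inv_left
  rw [normalClosure_eq_top (Set.mem_singleton y) hy] at hall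
  exact cix_ne_one hna hx (Subgroup.index_eq_one.2 (top_le_iff.1 hall))

theorem exists_not_dvd {r : ℕ} (hr : r.Prime) : ∃ w : G, w ≠ 1 ∧ ¬ r ∣ cix w := by
  haveI := Fact.mk hr
  haveI : Nontrivial G := IsSimpleGroup.toNontrivial
  by_cases h : r ∣ Nat.card G
  · obtain ⟨-, z, -, hz, -, hnd⟩ := exists_central (G := G) r h
    exact ⟨z, fun e => hr.ne_one (by rw [← hz, e, orderOf_one]), hnd⟩
  · obtain ⟨w, hw⟩ := exists_ne (1 : G)
    exact ⟨w, hw, fun hd => h (hd.trans (cix_dvd_card w))⟩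

variable (X : Ctx G)

omit [Finite G] [IsSimpleGroup G] in
include X in
theorem Ctx.mem_four {u v w e : G} (hu : u ≠ 1) (hv : v ≠ 1) (hw : w ≠ 1) (he : e ≠ 1)
    (h : [cix u, cix v, cix w, cix e].Nodup) {z : G} (hz : z ≠ 1) :
    cix z = cix u ∨ cix z = cix v ∨ cix z = cix w ∨ cix z = cix e := by
  set I := {m : ℕ | ∃ w : G, w ≠ 1 ∧ m = cix w} with hI
  have hfin : I.Finite := Set.finite_of_ncard_ne_zero (by rw [hI, X.four]; norm_num)
  set J : Set ℕ := {cix u, cix v, cix w, cix e} with hJ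
  have hsub : J ⊆ I := by
    rintro m (rfl | rfl | rfl | rfl)
    exacts [⟨u, hu, rfl⟩, ⟨v, hv, rfl⟩, ⟨w, hw, rfl⟩, ⟨e, he, rfl⟩]
  have hcard : J.ncard = 4 := by
    have e1 : J = ([cix u, cix v, cix w, cix e].toFinset : Set ℕ) := by
      ext m
      simp [hJ]
    rw [e1, Set.ncard_coe_finset, List.toFinset_card_of_nodup h]
    rfl
  have heq : J = I := Set.eq_of_subset_of_ncard_le hsub (by rw [hI, X.four, hcard]) hfin
  have : cix z ∈ J := heq.symm ▸ ⟨z, hz, rfl⟩
  simpa [hJ] using this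

include X in
theorem Ctx.not_common {u v w e : G} (hu : u ≠ 1) (hv : v ≠ 1) (hw : w ≠ 1) (he : e ≠ 1)
    (h : [cix u, cix v, cix w, cix e].Nodup) {r : ℕ} (hr : r.Prime) :
    ¬ (r ∣ cix u ∧ r ∣ cix v ∧ r ∣ cix w ∧ r ∣ cix e) := by
  rintro ⟨h1, h2, h3, h4⟩
  obtain ⟨z, hz, hnd⟩ := exists_not_dvd (G := G) hr
  rcases X.mem_four hu hv hw he h hz with e' | e' | e' | e' <;> rw [e'] at hnd <;> contradiction

include X in
theorem Ctx.flat_or_two : Flat G ∨ ∃ a b c d : ℕ, Two G a b c d := by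
  by_cases hF : Flat G
  · exact Or.inl hF
  refine Or.inr ?_
  simp only [Flat, not_forall] at hF
  obtain ⟨u, v, w, huv, huw, hne⟩ := hF
  set I := {m : ℕ | ∃ w : G, w ≠ 1 ∧ m = cix w} with hI
  have h1 : ¬ I ⊆ {cix u, cix v, cix w} := fun hs => by
    have := Set.ncard_le_ncard hs (Set.toFinite _)
    rw [hI, X.four] at this
    have h3 : ({cix u, cix v, cix w} : Set ℕ).ncard ≤ 3 :=
      (Set.ncard_insert_le _ _).trans (Nat.succ_le_succ ((Set.ncard_insert_le _ _).trans (by simp)))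
    omega
  obtain ⟨_, ⟨b, hb, rfl⟩, hbn⟩ := Set.not_subset.1 h1
  simp only [Set.mem_insert_iff, Set.mem_singleton_iff, not_or] at hbn
  have hnd : [cix u, cix b, cix v, cix w].Nodup := by
    simp only [List.nodup_cons, List.mem_cons, List.not_mem_nil, or_false, not_or, List.nodup_nil, and_true,
      not_false_eq_true]
    exact ⟨⟨Ne.symm hbn.1, huv.ne, huw.ne⟩, ⟨hbn.2.1, hbn.2.2⟩, hne⟩
  refine ⟨cix u, cix b, cix v, cix w, fun z hz => X.mem_four huv.hu hb huv.hv huw.hv hnd hz, ⟨u, huv.hu, rfl⟩,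
    ⟨b, hb, rfl⟩, ⟨v, huv.hv, rfl⟩, ⟨w, huw.hv, rfl⟩, huv.dvd, huw.dvd, ?_, huv.ne, huw.ne, hne,
    one_lt_cix X.hna huv.hu, one_lt_cix X.hna hb⟩
  refine Nat.coprime_of_dvd fun r hr h2 h3 => ?_
  exact X.not_common huv.hu hb huv.hv huw.hv hnd hr ⟨h2, h3, h2.trans huv.dvd, h2.trans huw.dvd⟩

omit [IsSimpleGroup G] in
/-- A maximal centraliser size: commuting elements of coprime order are central in the centraliser. -/
theorem MaxS.le {v x : G} (hm : MaxS v) (hv : v ≠ 1) (h : Commute v x) (hc : (orderOf v).Coprime (orderOf x)) :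
    Subgroup.centralizer ({v} : Set G) ≤ Subgroup.centralizer ({x} : Set G) := by
  have hle := centralizer_mul_le h hc
  have he := hm _ (mul_ne_one' hc hv) (Subgroup.index_dvd_of_le hle)
  rw [← eq_of_le_cix hle he]
  exact centralizer_mul_le' h hc

namespace Flat

variable (F : Flat G) {u v : G} (B : Below u v)

omit [IsSimpleGroup G] in
include F B in
theorem top : MaxS v := by
  intro w hw hd
  by_contra hne
  refine hne (F u v w B ⟨B.hu, hw, B.dvd.trans hd, fun e => B.ne ?_⟩).symm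
  exact Nat.dvd_antisymm B.dvd (hd.trans (e ▸ dvd_rfl))

omit [IsSimpleGroup G] in
include F B in
theorem bot {w : G} (hw : w ≠ 1) (hd : cix w ∣ cix u) : cix w = cix u := by
  by_contra hne
  refine B.ne (F w u v ⟨hw, B.hu, hd, hne⟩ ⟨hw, B.hv, hd.trans B.dvd, fun e => B.ne ?_⟩)
  exact Nat.dvd_antisymm B.dvd (e ▸ hd)

omit [Finite G] [IsSimpleGroup G] in
include F B in
theorem mult {w : G} (hw : w ≠ 1) (hd : cix u ∣ cix w) : cix w = cix u ∨ cix w = cix v := by
  by_cases he : cix u = cix w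
  · exact Or.inl he.symm
  · exact Or.inr (F u w v ⟨B.hu, hw, hd, he⟩ B)

omit [Finite G] [IsSimpleGroup G] in
include B in
theorem not_max : ¬ MaxS u := fun h => B.ne (h v B.hv B.dvd).symm

omit [IsSimpleGroup G] in
theorem sep_aux (F : Flat G) {u v w n : G} (B : Below u v) (Bw : Below w n) (hnv : cix v ≠ cix n) :
    [cix u, cix v, cix w, cix n].Nodup := by
  have hmax := F.top B
  have hmax' := F.top Bw
  have hwx : cix u ≠ cix w := fun e => hnv (F u v n B ⟨B.hu, Bw.hv, e ▸ Bw.dvd, e ▸ Bw.ne⟩)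
  have hwv : cix v ≠ cix w := fun e => Bw.ne ((hmax n Bw.hv (e ▸ Bw.dvd)).trans e).symm
  have hxn : cix u ≠ cix n := fun e => B.ne (((hmax' v B.hv (e ▸ B.dvd))).trans e.symm).symm
  simp only [List.nodup_cons, List.mem_cons, List.not_mem_nil, or_false, not_or, List.nodup_nil, and_true,
    not_false_eq_true]
  exact ⟨⟨B.ne, hwx, hxn⟩, ⟨hwv, hnv⟩, Bw.ne⟩

include F in
theorem sep (X : Ctx G) : Sep G where
  hna := X.hna
  apart := fun {_ _ _ _} B Bw hnv => Nat.coprime_of_dvd fun r hr h1 h2 =>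
    X.not_common B.hu B.hv Bw.hu Bw.hv (sep_aux F B Bw hnv) hr ⟨h1, h1.trans B.dvd, h2, h2.trans Bw.dvd⟩

end Flat

omit [Finite G] [IsSimpleGroup G] in
theorem max_or_below {u : G} (hu : u ≠ 1) : MaxS u ∨ ∃ v, Below u v := by
  by_cases h : MaxS u
  · exact Or.inl h
  · simp only [MaxS, not_forall] at h
    obtain ⟨w, hw, hd, hne⟩ := h
    exact Or.inr ⟨w, hu, hw, hd, Ne.symm hne⟩

end Cfsg.Agent.Transfer.ConjRankFour
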