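import Cfsg.Agent.Lib.Transfer.ConjRankFour.Basic
import Cfsg.Agent.Lib.Grp.Cores
import Cfsg.Agent.S0028
import Cfsg.Agent.S0044

/-!
The same solvable centraliser for a `p`-element and a `q`-element, both primes dividing the ratio of the
two class sizes: impossible when every size has at most one proper multiple.
-/

set_option autoImplicit false
set_option linter.style.haveILetI false
set_option linter.unusedSectionVars false
set_option maxHeartbeats 1000000

universe u

namespace Cfsg.Agent.Transfer.ConjRankFour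

open Cfsg Cfsg.Agent Cfsg.Agent.Transfer.ClassDisconnected Cfsg.Agent.Transfer.ConjRankThree

variable {G : Type u} [Group G] [Finite G]

/-- The configuration. -/
structure Pair (p q : ℕ) (x y v : G) : Prop where
  hp : p.Prime
  hq : q.Prime
  hpq : p ≠ q
  ordx : ∃ i, orderOf x = p ^ i
  ordy : ∃ i, orderOf y = q ^ i
  below : Below x v
  cent : Subgroup.centralizer ({y} : Set G) = Subgroup.centralizer ({x} : Set G)
  hy : y ≠ 1
  pdvd : p * cix x ∣ cix v
  qdvd : q * cix x ∣ cix v
  solv : Group.IsSolvable ↥(Subgroup.centralizer ({x} : Set G))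
  nonab : ∃ g ∈ Subgroup.centralizer ({x} : Set G),
    ¬ Subgroup.centralizer ({x} : Set G) ≤ Subgroup.centralizer ({g} : Set G)
  others : ∀ g ∈ Subgroup.centralizer ({x} : Set G), (orderOf g).Coprime (p * q) →
    Subgroup.centralizer ({x} : Set G) ≤ Subgroup.centralizer ({g} : Set G)

namespace Pair

variable {p q : ℕ} {x y v : G} (D : Pair p q x y v)

include D in
theorem cix_y : cix y = cix x := congrArg Subgroup.index D.cent

include D in
theorem symm : Pair q p y x v where
  hp := D.hq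
  hq := D.hp
  hpq := D.hpq.symm
  ordx := D.ordy
  ordy := D.ordx
  below := ⟨D.hy, D.below.hv, D.cix_y ▸ D.below.dvd, D.cix_y ▸ D.below.ne⟩
  cent := D.cent.symm
  hy := D.below.hu
  pdvd := D.cix_y ▸ D.qdvd
  qdvd := D.cix_y ▸ D.pdvd
  solv := D.cent.symm ▸ D.solv
  nonab := by rw [D.cent]; exact D.nonab
  others := fun g hg hc => by
    rw [D.cent] at hg ⊢
    exact D.others g hg (mul_comm q p ▸ hc)

include D in
theorem y_mem : y ∈ Subgroup.centralizer ({x} : Set G) := D.cent ▸ self_mem y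

include D in
theorem cop_y {w : G} {i : ℕ} (hw : orderOf w = p ^ i) : (orderOf y).Coprime (orderOf w) := by
  obtain ⟨j, hj⟩ := D.ordy
  rw [hw, hj]
  exact (((Nat.coprime_primes D.hq D.hp).2 D.hpq.symm).pow_left j).pow_right i

variable [IsSimpleGroup G]

include D in
theorem size (F : Flat G) {w : G} (hw : w ∈ Subgroup.centralizer ({x} : Set G)) {i : ℕ}
    (hwp : orderOf w = p ^ i) :
    Subgroup.centralizer ({x} : Set G) ≤ Subgroup.centralizer ({w} : Set G) ∨
      (Subgroup.centralizer ({w} : Set G)).relIndex (Subgroup.centralizer ({x} : Set G)) * cix x = cix v := by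
  have hyw : Commute y w := (mem_cent.1 (D.cent.symm ▸ hw : w ∈ Subgroup.centralizer ({y} : Set G))).symm
  have hco := D.cop_y hwp
  have hd : cix y ∣ cix (y * w) := Subgroup.index_dvd_of_le (centralizer_mul_le hyw hco)
  rw [D.cix_y] at hd
  rcases F.mult D.below (mul_ne_one' hco D.hy) hd with e | e
  · left
    have h1 := eq_of_le_cix (centralizer_mul_le hyw hco) (e.trans D.cix_y.symm)
    rw [D.cent] at h1
    exact h1 ▸ centralizer_mul_le' hyw hco
  · right
    rw [← e, cix, cix, inf_eq_centralizer_mul hyw hco, D.cent, inf_comm,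
      ← Subgroup.relIndex_mul_index (inf_le_right :
        Subgroup.centralizer ({w} : Set G) ⊓ Subgroup.centralizer ({x} : Set G) ≤ _),
      Subgroup.inf_relIndex_right]

include D in
theorem not_sylow (F : Flat G) {w : G} (hw : w ∈ Subgroup.centralizer ({x} : Set G)) {i : ℕ}
    (hwp : orderOf w = p ^ i) (hn : ¬ Subgroup.centralizer ({x} : Set G) ≤ Subgroup.centralizer ({w} : Set G))
    {r : ℕ} [Fact r.Prime] (hr : r = p ∨ r = q) (P : Sylow r (Subgroup.centralizer ({x} : Set G))) :
    ¬ (P : Subgroup (Subgroup.centralizer ({x} : Set G))) ≤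
      (Subgroup.centralizer ({w} : Set G)).subgroupOf (Subgroup.centralizer ({x} : Set G)) := by
  intro hle
  have h := (D.size F hw hwp).resolve_left hn
  have hd : r * cix x ∣ cix v := by rcases hr with rfl | rfl; exacts [D.pdvd, D.qdvd]
  rw [← h] at hd
  exact P.not_dvd_index ((Nat.dvd_of_mul_dvd_mul_right (cix_pos x) hd).trans (Subgroup.index_dvd_of_le hle))

include D in
theorem not_dvd (F : Flat G) (hna : ¬ IsMulCommutative G) : ¬ p ∣ cix x := by
  haveI := Fact.mk D.hp
  set C := Subgroup.centralizer ({x} : Set G)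
  obtain ⟨i, hi⟩ := D.ordx
  obtain ⟨P, hxP⟩ := exists_sylow_mem (G := C) (r := p) (k := i) (f := ⟨x, self_mem x⟩)
    (by rw [Subgroup.orderOf_mk]; exact hi)
  obtain ⟨R, hR⟩ := (P.isPGroup'.map C.subtype).exists_le_sylow
  have hpG : p ∣ Nat.card G := ((dvd_mul_right p _).trans D.pdvd).trans (cix_dvd_card v)
  obtain ⟨z, hzR, hzo, hzc, hznd⟩ := exists_center p hpG R
  have hz1 : z ≠ 1 := fun e => D.hp.ne_one (by rw [← hzo, e, orderOf_one])
  have hzC : z ∈ C := mem_cent.2 (hzc x (hR ⟨⟨x, self_mem x⟩, hxP, rfl⟩)).symm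
  have hle : C ≤ Subgroup.centralizer ({z} : Set G) := by
    by_contra hn
    refine D.not_sylow F hzC (i := 1) (by rw [hzo, pow_one]) hn (Or.inl rfl) P fun c hc => ?_
    exact Subgroup.mem_subgroupOf.2 (mem_cent.2 (hzc c (hR ⟨c, hc, rfl⟩)))
  rw [← F.bot D.below hz1 (Subgroup.index_dvd_of_le hle)]
  exact hznd

include D in
theorem exists_noncentral (F : Flat G) {w : G} (hw : w ∈ Subgroup.centralizer ({x} : Set G)) {i : ℕ}
    (hwp : orderOf w = p ^ i) (hn : ¬ Subgroup.centralizer ({x} : Set G) ≤ Subgroup.centralizer ({w} : Set G)) :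
    ∃ u ∈ Subgroup.centralizer ({x} : Set G), (∃ j, orderOf u = q ^ j) ∧
      ¬ Subgroup.centralizer ({x} : Set G) ≤ Subgroup.centralizer ({u} : Set G) := by
  haveI := Fact.mk D.hq
  obtain ⟨Q⟩ : Nonempty (Sylow q (Subgroup.centralizer ({x} : Set G))) := inferInstance
  by_contra hc
  push Not at hc
  refine D.not_sylow F hw hwp hn (Or.inr rfl) Q fun c hc' => Subgroup.mem_subgroupOf.2 (mem_cent.2 ?_)
  obtain ⟨j, hj⟩ := IsPGroup.iff_orderOf.1 Q.isPGroup' ⟨c, hc'⟩
  rw [Subgroup.orderOf_mk, ← Subgroup.orderOf_coe] at hj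
  exact (mem_cent.1 (hc _ c.2 ⟨j, hj⟩ hw)).symm

include D in
/-- A `q`-element, noncentral in the centraliser, centralised by the centraliser of `w` in it. -/
theorem partner (F : Flat G) (X : Sep G) {w : G} (hw : w ∈ Subgroup.centralizer ({x} : Set G)) {i : ℕ}
    (hwp : orderOf w = p ^ i) (hn : ¬ Subgroup.centralizer ({x} : Set G) ≤ Subgroup.centralizer ({w} : Set G)) :
    ∃ u ∈ Subgroup.centralizer ({x} : Set G), (∃ j, orderOf u = q ^ j) ∧
      ¬ Subgroup.centralizer ({x} : Set G) ≤ Subgroup.centralizer ({u} : Set G) ∧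
      Subgroup.centralizer ({x} : Set G) ⊓ Subgroup.centralizer ({w} : Set G) ≤
        Subgroup.centralizer ({u} : Set G) := by
  classical
  haveI := Fact.mk D.hq
  set C := Subgroup.centralizer ({x} : Set G) with hC
  have hw1 : w ≠ 1 := fun e => hn fun c _ => mem_cent.2 (e ▸ Commute.one_right c)
  have hcopq : ∀ {u : G} {j : ℕ}, orderOf u = q ^ j → (orderOf w).Coprime (orderOf u) := fun {u j} hu => by
    rw [hwp, hu]
    exact (((Nat.coprime_primes D.hp D.hq).2 D.hpq).pow_left i).pow_right j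
  rcases max_or_below hw1 with hm | ⟨n, Bw⟩
  · suffices ∃ u ∈ C ⊓ Subgroup.centralizer ({w} : Set G), (∃ j, orderOf u = q ^ j) ∧
        ¬ C ≤ Subgroup.centralizer ({u} : Set G) by
      obtain ⟨u, hu, ⟨j, hj⟩, hun⟩ := this
      exact ⟨u, hu.1, ⟨j, hj⟩, hun,
        inf_le_right.trans (hm.le hw1 (mem_cent.1 hu.2).symm (hcopq hj))⟩
    by_contra hc
    push Not at hc
    obtain ⟨u, hu, ⟨j, hj⟩, hun⟩ := D.exists_noncentral F hw hwp hn
    -- the centre of `C`
    set Z := C ⊓ Subgroup.centralizer (C : Set G) with hZ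
    have hZmem : ∀ {g : G}, g ∈ C → C ≤ Subgroup.centralizer ({g} : Set G) → g ∈ Z := fun {g} hg h =>
      ⟨hg, Subgroup.mem_centralizer_iff.2 fun c hc => (mem_cent.1 (h hc)).eq⟩
    have hZle : ∀ g : G, g ∈ C → Z ≤ C ⊓ Subgroup.centralizer ({g} : Set G) := fun g hg z hz =>
      ⟨hz.1, mem_cent.2 ((show Commute g z from Subgroup.mem_centralizer_iff.1 hz.2 g hg)).symm⟩
    have e1 : (Subgroup.centralizer ({w} : Set G)).relIndex C = (Subgroup.centralizer ({u} : Set G)).relIndex C := by
      have a1 := (D.size F hw hwp).resolve_left hn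
      have a2 : (Subgroup.centralizer ({u} : Set G)).relIndex (Subgroup.centralizer ({y} : Set G)) * cix y = cix v :=
        (D.symm.size F (D.cent.symm ▸ hu) hj).resolve_left (D.cent.symm ▸ hun)
      rw [D.cent, D.cix_y] at a2
      exact Nat.eq_of_mul_eq_mul_right (cix_pos x) (a1.trans a2.symm)
    have e2 : Z.relIndex (C ⊓ Subgroup.centralizer ({w} : Set G)) =
        Z.relIndex (C ⊓ Subgroup.centralizer ({u} : Set G)) := by
      have a1 := Subgroup.relIndex_mul_relIndex Z _ C (hZle w hw) inf_le_left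
      have a2 := Subgroup.relIndex_mul_relIndex Z _ C (hZle u hu) inf_le_left
      rw [Subgroup.inf_relIndex_left] at a1 a2
      rw [e1] at a1
      exact Nat.eq_of_mul_eq_mul_right (Nat.pos_of_ne_zero Subgroup.index_ne_zero_of_finite) (a1.trans a2.symm)
    have hnor : ∀ g : G, g ∈ C → (Z.subgroupOf (C ⊓ Subgroup.centralizer ({g} : Set G))).Normal := fun g _ =>
      ⟨fun z hz c => by
        have h1 : Commute (c : G) (z : G) :=
          Subgroup.mem_centralizer_iff.1 (Subgroup.mem_subgroupOf.1 hz).2 c c.2.1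
        rw [Subgroup.mem_subgroupOf, Subgroup.coe_mul, Subgroup.coe_mul, Subgroup.coe_inv, h1.eq,
          mul_inv_cancel_right]
        exact Subgroup.mem_subgroupOf.1 hz⟩
    haveI := hnor w hw
    haveI := hnor u hu
    set Ju := C ⊓ Subgroup.centralizer ({u} : Set G) with hJu
    set Jw := C ⊓ Subgroup.centralizer ({w} : Set G) with hJw
    have hq : q ∣ Z.relIndex Ju := by
      set ub : Ju ⧸ Z.subgroupOf Ju := QuotientGroup.mk ⟨u, hu, self_mem u⟩ with hub
      have h1 : ub ≠ 1 := fun e => by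
        rw [hub, QuotientGroup.eq_one_iff, Subgroup.mem_subgroupOf] at e
        exact hun fun c hc => mem_cent.2 (Subgroup.mem_centralizer_iff.1 e.2 c hc)
      obtain ⟨l, -, hl⟩ := (Nat.dvd_prime_pow D.hq).1 (show orderOf ub ∣ q ^ j from hj ▸
        (orderOf_map_dvd (QuotientGroup.mk' (Z.subgroupOf Ju)) ⟨u, hu, self_mem u⟩).trans
          (Subgroup.orderOf_mk u _).dvd)
      have hl0 : l ≠ 0 := fun e => h1 (orderOf_eq_one_iff.1 (by rw [hl, e, pow_zero]))
      exact (dvd_pow_self q hl0).trans (hl ▸ orderOf_dvd_natCard ub)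
    obtain ⟨Q⟩ : Nonempty (Sylow q Jw) := inferInstance
    rw [← e2] at hq
    refine Q.not_dvd_index (hq.trans (Subgroup.index_dvd_of_le fun g hg => ?_))
    rw [Subgroup.mem_subgroupOf]
    obtain ⟨l, hl⟩ := IsPGroup.iff_orderOf.1 Q.isPGroup' ⟨g, hg⟩
    rw [Subgroup.orderOf_mk, ← Subgroup.orderOf_coe] at hl
    exact hZmem g.2.1 (hc _ g.2 ⟨l, hl⟩)
  · set H := Subgroup.centralizer ({w} : Set G) with hH
    have hxH : x ∈ H := mem_cent.2 (mem_cent.1 hw).symm
    have hyH : y ∈ H :=
      mem_cent.2 (mem_cent.1 (D.cent.symm ▸ hw : w ∈ Subgroup.centralizer ({y} : Set G))).symm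
    -- an element of `C` central in both centralisers
    have hboth : ∀ {g : G}, g ≠ 1 → C ≤ Subgroup.centralizer ({g} : Set G) →
        H ≤ Subgroup.centralizer ({g} : Set G) → False := fun {g} hg hCg hHg => by
      have hcg := F.bot D.below hg (Subgroup.index_dvd_of_le hCg)
      have hCeq := eq_of_le_cix hCg hcg.symm
      rw [← hCeq] at hHg
      rcases F.mult D.below hw1 (Subgroup.index_dvd_of_le hHg) with e | e
      · exact hn (eq_of_le_cix hHg e).ge
      · exact Bw.ne (F.top D.below n Bw.hv (e ▸ Bw.dvd) ▸ e)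
    by_cases hq' : ∃ u : G, u ≠ 1 ∧ u ∈ H ∧ (∃ j, orderOf u = q ^ j) ∧ H ≤ Subgroup.centralizer ({u} : Set G)
    · obtain ⟨u, hu1, -, hj, hHu⟩ := hq'
      exact ⟨u, mem_cent.2 (mem_cent.1 (hHu hxH)).symm, hj, fun h => hboth hu1 h hHu,
        inf_le_right.trans hHu⟩
    exfalso
    push Not at hq'
    have hsz : ∀ {g : G}, g ≠ 1 → g ∈ H → (orderOf w).Coprime (orderOf g) →
        H ≤ Subgroup.centralizer ({g} : Set G) ∨
          cix n = (Subgroup.centralizer ({g} : Set G)).relIndex H * cix w := fun {g} _ hg hco => by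
      have hwg : Commute w g := (mem_cent.1 hg).symm
      have hle := centralizer_mul_le hwg hco
      rcases F.mult Bw (mul_ne_one' hco hw1) (Subgroup.index_dvd_of_le hle) with e | e
      · refine Or.inl ?_
        have h1 := centralizer_mul_le' hwg hco
        rwa [eq_of_le_cix hle e] at h1
      · refine Or.inr ?_
        rw [← e, cix, cix, inf_eq_centralizer_mul hwg hco, inf_comm,
          ← Subgroup.relIndex_mul_index (inf_le_right : Subgroup.centralizer ({g} : Set G) ⊓ H ≤ H),
          Subgroup.inf_relIndex_right]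
    -- the prime `q` does not divide the ratio of the sizes above `w`
    have hqn : ¬ q * cix w ∣ cix n := by
      intro hd
      obtain ⟨j, hj⟩ := D.ordy
      obtain ⟨Q⟩ : Nonempty (Sylow q H) := inferInstance
      have hqH : q ∣ Nat.card H := (dvd_pow_self q (fun e => D.hy (orderOf_eq_one_iff.1 (by rw [hj, e, pow_zero])))).trans
        (hj ▸ H.orderOf_dvd_natCard hyH)
      obtain ⟨g, hgQ, hgo, hgc, -⟩ := exists_center q hqH Q
      have hgo' : orderOf (g : G) = q ^ 1 := by rw [Subgroup.orderOf_coe, hgo, pow_one]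
      have hg1 : (g : G) ≠ 1 := fun e => D.hq.ne_one (by rw [← pow_one q, ← hgo', e, orderOf_one])
      rcases hsz hg1 g.2 (hcopq hgo') with h | h
      · exact hq' _ hg1 g.2 ⟨1, hgo'⟩ h
      · rw [h] at hd
        refine Q.not_dvd_index ((Nat.dvd_of_mul_dvd_mul_right (cix_pos w) hd).trans
          (Subgroup.index_dvd_of_le fun c hc => Subgroup.mem_subgroupOf.2 (mem_cent.2 ?_)))
        exact congrArg Subtype.val (hgc c hc).eq
    by_cases hnv : cix n = cix v
    swap
    · exact not_commute X.hna D.below.hu hw1 (X.apart D.below Bw (Ne.symm hnv)) (mem_cent.1 hw).symm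
    have hml : ¬ cix x ∣ cix w := fun hd => by
      rcases F.mult D.below hw1 hd with e | e
      · exact hqn (by rw [e, hnv]; exact D.qdvd)
      · exact Bw.ne (e.trans hnv.symm)
    rw [Nat.dvd_iff_prime_pow_dvd_dvd] at hml
    push Not at hml
    obtain ⟨r, k, hr, hrm, hrl⟩ := hml
    haveI := Fact.mk hr
    have hk : k ≠ 0 := fun e => hrl (by rw [e, pow_zero]; exact one_dvd _)
    have hrd : r ∣ cix x := (dvd_pow_self r hk).trans hrm
    have hrp : r ≠ p := fun e => D.not_dvd F X.hna (e ▸ hrd)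
    have hrq : r ≠ q := fun e => D.symm.not_dvd F X.hna (D.cix_y.symm ▸ e ▸ hrd)
    have hrH : r ∣ Nat.card H := by
      by_contra h
      refine hrl ((((hr.coprime_iff_not_dvd).2 h).pow_left k).dvd_of_dvd_mul_left ?_)
      rw [card_mul_cix]
      exact hrm.trans (cix_dvd_card x)
    obtain ⟨R⟩ : Nonempty (Sylow r H) := inferInstance
    obtain ⟨g, hgR, hgo, hgc, -⟩ := exists_center r hrH R
    have hgo' : orderOf (g : G) = r := by rw [Subgroup.orderOf_coe, hgo]
    have hg1 : (g : G) ≠ 1 := fun e => hr.ne_one (by rw [← hgo', e, orderOf_one])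
    rcases hsz hg1 g.2 (by rw [hwp, hgo']; exact ((Nat.coprime_primes D.hp hr).2 hrp.symm).pow_left i) with h | h
    · have hgC : (g : G) ∈ C := mem_cent.2 (mem_cent.1 (h hxH)).symm
      refine hboth hg1 (D.others _ hgC ?_) h
      rw [hgo']
      exact ((Nat.coprime_primes hr D.hp).2 hrp).mul_right ((Nat.coprime_primes hr D.hq).2 hrq)
    · refine hrl (((((hr.coprime_iff_not_dvd).2 fun hd => R.not_dvd_index (hd.trans
        (Subgroup.index_dvd_of_le fun c hc => Subgroup.mem_subgroupOf.2 (mem_cent.2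
          (congrArg Subtype.val (hgc c hc).eq))))).pow_left k).dvd_of_dvd_mul_left ?_))
      rw [← Subgroup.relIndex, ← h, hnv]
      exact hrm.trans D.below.dvd

include D in
theorem core_central (F : Flat G) (X : Sep G) :
    Cfsg.pCore p (Subgroup.centralizer ({x} : Set G)) ≤
      Subgroup.center (Subgroup.centralizer ({x} : Set G)) := by
  haveI := Fact.mk D.hp
  set C := Subgroup.centralizer ({x} : Set G) with hC
  set U := Cfsg.pCore p C with hU
  haveI : U.Normal := Grp.pCore_isNormal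
  have hUp : IsPGroup p U := Grp.pCore_isPGroup
  have key : ∀ w : C, (∃ i, orderOf (w : G) = p ^ i) → ∀ a ∈ U, Commute (a : G) (w : G) := by
    rintro w ⟨i, hi⟩ a ha
    by_cases hwc : C ≤ Subgroup.centralizer ({(w : G)} : Set G)
    · exact mem_cent.1 (hwc a.2)
    obtain ⟨u, hu, ⟨j, hj⟩, hun, hle⟩ := D.partner F X w.2 hi hwc
    set u' : C := ⟨u, hu⟩
    have hQ : Subgroup.zpowers u' ≤ Subgroup.centralizer (U : Set C) := by
      refine Cfsg.Agent.S0028.result p (Subgroup.zpowers w) (Subgroup.zpowers u') U ?_ ?_ hUp ?_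
        (by rw [Subgroup.normalizer_eq_top]; exact le_top) (by rw [Subgroup.normalizer_eq_top]; exact le_top) ?_
      · exact IsPGroup.of_card (n := i) (by rw [Nat.card_zpowers, ← Subgroup.orderOf_coe, hi])
      · rw [Nat.card_zpowers, Subgroup.orderOf_mk, hj]
        exact ((Nat.coprime_primes D.hq D.hp).2 D.hpq.symm).pow_left j
      · rw [Subgroup.zpowers_le]
        refine Subgroup.mem_centralizer_iff.2 ?_
        rintro _ ⟨k, rfl⟩
        have h1 : Commute (w : G) u := mem_cent.1 (hle ⟨w.2, self_mem _⟩)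
        exact (((show Commute w u' from Subtype.ext h1.eq).symm).zpow_left k).eq
      · intro c hc
        have h1 : Commute c w := (Subgroup.mem_centralizer_iff.1 hc.2 w (Subgroup.mem_zpowers w)).symm
        have h2 : Commute (c : G) u := mem_cent.1 (hle ⟨c.2, mem_cent.2 (h1.map C.subtype)⟩)
        refine Subgroup.mem_centralizer_iff.2 ?_
        rintro _ ⟨k, rfl⟩
        exact (((show Commute c u' from Subtype.ext h2.eq).symm).zpow_left k).eq
    have h2 : Commute (a : G) u := (show Commute a u' from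
      Subgroup.mem_centralizer_iff.1 (hQ (Subgroup.mem_zpowers u')) a ha).map C.subtype
    have heq : C ⊓ Subgroup.centralizer ({(w : G)} : Set G) = C ⊓ Subgroup.centralizer ({u} : Set G) := by
      refine Subgroup.eq_of_le_of_card_ge (le_inf inf_le_left hle) (le_of_eq ?_)
      have a1 := (D.size F w.2 hi).resolve_left hwc
      have a2 : (Subgroup.centralizer ({u} : Set G)).relIndex (Subgroup.centralizer ({y} : Set G)) * cix y = cix v :=
        (D.symm.size F (D.cent.symm ▸ hu) hj).resolve_left (D.cent.symm ▸ hun)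
      rw [D.cent, D.cix_y, ← a1] at a2
      have a3 := Nat.eq_of_mul_eq_mul_right (cix_pos x) a2
      rw [← Subgroup.inf_relIndex_left C (Subgroup.centralizer ({u} : Set G)),
        ← Subgroup.inf_relIndex_left C (Subgroup.centralizer ({(w : G)} : Set G))] at a3
      have b1 := Subgroup.relIndex_mul_relIndex ⊥ _ C bot_le
        (inf_le_left : C ⊓ Subgroup.centralizer ({u} : Set G) ≤ C)
      have b2 := Subgroup.relIndex_mul_relIndex ⊥ _ C bot_le
        (inf_le_left : C ⊓ Subgroup.centralizer ({(w : G)} : Set G) ≤ C)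
      rw [Subgroup.relIndex_bot_left, Subgroup.relIndex_bot_left] at b1 b2
      rw [a3] at b1
      exact Nat.eq_of_mul_eq_mul_right (Nat.pos_of_ne_zero Subgroup.index_ne_zero_of_finite) (b1.trans b2.symm)
    exact mem_cent.1 (heq.ge ⟨a.2, mem_cent.2 h2⟩).2
  intro a ha
  refine Subgroup.mem_center_iff.2 fun c => Subtype.ext ?_
  obtain ⟨i, hi⟩ := IsPGroup.iff_orderOf.1 hUp ⟨a, ha⟩
  rw [Subgroup.orderOf_mk, ← Subgroup.orderOf_coe] at hi
  suffices h : C ≤ Subgroup.centralizer ({(a : G)} : Set G) from (mem_cent.1 (h c.2)).eq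
  by_contra hn
  obtain ⟨P⟩ : Nonempty (Sylow p C) := inferInstance
  refine D.not_sylow F a.2 hi hn (Or.inl rfl) P fun g hg => Subgroup.mem_subgroupOf.2 (mem_cent.2 ?_)
  obtain ⟨l, hl⟩ := IsPGroup.iff_orderOf.1 P.isPGroup' ⟨g, hg⟩
  rw [Subgroup.orderOf_mk, ← Subgroup.orderOf_coe] at hl
  exact (key g ⟨l, hl⟩ a ha).symm

include D in
theorem false (F : Flat G) (X : Sep G) : False := by
  haveI := Fact.mk D.hp
  haveI := Fact.mk D.hq
  set C := Subgroup.centralizer ({x} : Set G) with hC
  haveI := D.solv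
  set Fi := Cfsg.fittingSubgroup C with hFi
  haveI : Fi.Normal := Grp.fittingSubgroup_isNormal
  have hz : ∀ r : ℕ, r.Prime → Cfsg.pCore r C ≤ Subgroup.center C := by
    intro r hr
    haveI := Fact.mk hr
    by_cases hrp : r = p
    · rw [hrp]
      exact D.core_central F X
    by_cases hrq : r = q
    · rw [hrq]
      have h := D.symm.core_central F X
      rwa [D.cent] at h
    intro a ha
    obtain ⟨i, hi⟩ := IsPGroup.iff_orderOf.1 (Grp.pCore_isPGroup (G := C) (p := r)) ⟨a, ha⟩
    rw [Subgroup.orderOf_mk, ← Subgroup.orderOf_coe] at hi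
    refine Subgroup.mem_center_iff.2 fun c => Subtype.ext (mem_cent.1 (D.others _ a.2 ?_ c.2)).eq
    rw [hi]
    exact (((Nat.coprime_primes hr D.hp).2 hrp).mul_right ((Nat.coprime_primes hr D.hq).2 hrq)).pow_left i
  have hF : Fi ≤ Subgroup.center C := by
    rw [hFi, Grp.fittingSubgroup_eq_iSup_pCore]
    exact iSup_le fun r => hz r r.2
  have htop : Fi = ⊤ := top_le_iff.1 fun c _ => Cfsg.Agent.S0044.result (G := C)
    (Subgroup.mem_centralizer_iff.2 fun f hf => (Subgroup.mem_center_iff.1 (hF hf) c).symm)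
  obtain ⟨g, hg, hn⟩ := D.nonab
  refine hn fun c hc => mem_cent.2 ?_
  have h1 : (⟨g, hg⟩ : C) ∈ Fi := htop.ge (Subgroup.mem_top _)
  exact congrArg Subtype.val (Subgroup.mem_center_iff.1 (hF h1) ⟨c, hc⟩)

end Pair

end Cfsg.Agent.Transfer.ConjRankFour
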