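import Cfsg.Agent.Lib.Transfer.ConjRankFour.Local
import Cfsg.Agent.Lib.Transfer.ConjRankFour.Pair
import Cfsg.Agent.S0015

/-!
Four class sizes, each with at most one proper multiple: centralisers of involutions are solvable, and have
a normal `2`-complement unless the Sylow `2`-subgroups are abelian.
-/

set_option autoImplicit false
set_option linter.style.haveILetI false
set_option linter.unusedSectionVars false
set_option maxHeartbeats 1000000

open scoped Pointwise

universe u

namespace Cfsg.Agent.Transfer.ConjRankFour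

open Cfsg Cfsg.Agent Cfsg.Agent.Transfer.ClassDisconnected Cfsg.Agent.Transfer.ConjRankThree

variable {G : Type u} [Group G] [Finite G]

/-- The Sylow `2`-subgroups are abelian. -/
def SAb (G : Type u) [Group G] : Prop := ∀ P : Sylow 2 G, IsMulCommutative ↥(P : Subgroup G)

/-- What is wanted of the centraliser of an involution. -/
def Good (t : G) : Prop :=
  Group.IsSolvable ↥(Subgroup.centralizer ({t} : Set G)) ∧
    (HasNormalPComplement 2 ↥(Subgroup.centralizer ({t} : Set G)) ∨ SAb G)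

theorem good_of_hnc {t : G} (h : HasNormalPComplement 2 ↥(Subgroup.centralizer ({t} : Set G))) : Good t :=
  ⟨solvable_of_hnc h, Or.inl h⟩

theorem central_of_max {t : G} (hm : MaxS t) (ht1 : t ≠ 1) {k : ℕ} (ht : orderOf t = 2 ^ k)
    (x : Subgroup.centralizer ({t} : Set G)) (hx : (orderOf x).Coprime 2) :
    x ∈ Subgroup.center (Subgroup.centralizer ({t} : Set G)) := by
  have hle := hm.le ht1 (mem_cent.1 x.2).symm
    (by rw [ht, Subgroup.orderOf_coe]; exact hx.symm.pow_left k)
  exact Subgroup.mem_center_iff.2 fun c => Subtype.ext (mem_cent.1 (hle c.2)).eq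

theorem good_of_max {t : G} (ht : orderOf t = 2) (hm : MaxS t) : Good t :=
  good_of_hnc (hnc_of_central fun x hx =>
    central_of_max hm (fun e => by simp [e] at ht) (k := 1) (by rw [ht, pow_one]) x hx)

theorem vals_of {t v : G} (ht : orderOf t = 2) {k : ℕ} (hk : cix v = cix t * k) (hk1 : 1 < k)
    (hm : ∀ w : G, w ≠ 1 → cix t ∣ cix w → cix w = cix t ∨ cix w = cix v) :
    Vals ↥(Subgroup.centralizer ({t} : Set G)) k := by
  refine ⟨hk1, fun x hx => ?_⟩
  have hco : (orderOf t).Coprime (orderOf (x : G)) := by rw [ht, Subgroup.orderOf_coe]; exact hx.symm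
  have he := cix_sub_mul x hco
  rcases hm _ (mul_ne_one' hco fun e => by simp [e] at ht)
      (Subgroup.index_dvd_of_le (centralizer_mul_le (mem_cent.1 x.2).symm hco)) with e | e
  · rw [e] at he
    exact Or.inl ((mul_eq_right₀ (cix_pos t).ne').1 he)
  · rw [e, hk, mul_comm] at he
    exact Or.inr (Nat.eq_of_mul_eq_mul_left (cix_pos t) he)

/-- A subgroup without nontrivial elements of odd order. -/
theorem dvd_of_no_odd {K : Subgroup G} (h : ∀ u ∈ K, (orderOf u).Coprime 2 → u = 1) {a : ℕ} (ha : ¬ 2 ∣ a)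
    (hd : a ∣ Nat.card G) : a ∣ K.index := by
  refine Nat.Coprime.dvd_of_dvd_mul_left ?_ (K.card_mul_index.symm ▸ hd)
  refine Nat.coprime_of_dvd fun r hr h1 h2 => ?_
  haveI := Fact.mk hr
  obtain ⟨u, hu⟩ := exists_prime_orderOf_dvd_card' (G := K) r h2
  rw [← Subgroup.orderOf_coe] at hu
  have hr2 : r ≠ 2 := fun e => ha (e ▸ h1)
  have := h u u.2 (by rw [hu]; exact (Nat.coprime_primes hr Nat.prime_two).2 hr2)
  rw [this, orderOf_one] at hu
  exact hr.ne_one hu.symm

/-- With non-abelian Sylow `2`-subgroups some `2`-element is not of the class size of its involution. -/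
theorem exists_two_element (h : ¬ SAb G) :
    ∃ (f i : G) (k : ℕ), f ≠ 1 ∧ orderOf f = 2 ^ k ∧ orderOf i = 2 ∧ i ∈ Subgroup.zpowers f ∧
      cix i ∣ cix f ∧ cix i ≠ cix f := by
  classical
  haveI := Fact.mk Nat.prime_two
  by_contra hc
  push Not at hc
  have hall : ∀ (w : G) (k : ℕ), w ≠ 1 → orderOf w = 2 ^ k →
      Subgroup.centralizer ({w ^ (orderOf w / 2)} : Set G) = Subgroup.centralizer ({w} : Set G) := by
    intro w k hw hk
    have hk0 : k ≠ 0 := fun e => hw (orderOf_eq_one_iff.1 (by rw [hk, e, pow_zero]))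
    have hle := centralizer_le_pow w (orderOf w / 2)
    exact (eq_of_le_cix hle (hc w _ k hw hk
      (orderOf_pow_orderOf_div (orderOf_pos w).ne' (hk ▸ dvd_pow_self 2 hk0))
      (pow_mem (Subgroup.mem_zpowers w) _) (Subgroup.index_dvd_of_le hle)).symm).symm
  refine h fun P => ?_
  by_contra hP
  set S := (P : Subgroup G) with hS
  haveI : Group.IsNilpotent S := P.isPGroup'.isNilpotent
  obtain ⟨A, ⟨hAn, hAc⟩, hAmax⟩ := (Set.toFinite {M : Subgroup S | M.Normal ∧ IsMulCommutative M}).exists_maximal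
    ⟨⊥, inferInstance, ⟨⟨fun a b => Subsingleton.elim _ _⟩⟩⟩
  haveI := hAn
  haveI := hAc
  have hself : Subgroup.centralizer (A : Set S) = A :=
    Cfsg.Agent.S0015.result A fun M hM hMc hle => le_antisymm (hAmax ⟨hM, hMc⟩ hle) hle
  have hne : A ≠ ⊤ := fun e => hP ⟨⟨fun a b => by
    subst e
    exact congrArg Subtype.val (hAc.is_comm.comm ⟨a, Subgroup.mem_top a⟩ ⟨b, Subgroup.mem_top b⟩)⟩⟩
  have hAA : ∀ a ∈ A, ∀ b ∈ A, Commute a b := fun a ha b hb =>
    congrArg Subtype.val (hAc.is_comm.comm ⟨a, ha⟩ ⟨b, hb⟩)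
  -- elements of order two modulo `A`
  have hord : ∀ s : S, ∃ k : ℕ, orderOf (s : G) = 2 ^ k := fun s => by
    obtain ⟨k, hk⟩ := IsPGroup.iff_orderOf.1 P.isPGroup' s
    exact ⟨k, by rw [Subgroup.orderOf_coe]; exact hk⟩
  have hsq : ∀ x : S, x ∉ A → x ^ 2 ∈ A → x ^ 2 = 1 := by
    intro x hx hx2
    by_contra h1
    obtain ⟨k, hk⟩ := hord x
    have hx1 : (x : G) ≠ 1 := fun e => hx (by rw [show x = 1 from Subtype.ext e]; exact one_mem _)
    have hk2 : 2 ≤ k := by
      by_contra hlt
      refine h1 (Subtype.ext ?_)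
      rw [SubmonoidClass.coe_pow, Subgroup.coe_one]
      exact orderOf_dvd_iff_pow_eq_one.1 (hk ▸ pow_dvd_pow 2 (by omega : k ≤ 1))
    obtain ⟨l, rfl⟩ : ∃ l, k = l + 2 := ⟨k - 2, by omega⟩
    have hr : x ^ (orderOf (x : G) / 2) ∈ A := by
      have e : orderOf (x : G) / 2 = 2 * 2 ^ l := by
        rw [hk, pow_add]
        omega
      rw [e, pow_mul]
      exact pow_mem hx2 _
    refine hx (hself.le (Subgroup.mem_centralizer_iff.2 fun a ha => Subtype.ext ?_))
    have h2 : (a : G) ∈ Subgroup.centralizer ({(x : G) ^ (orderOf (x : G) / 2)} : Set G) :=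
      mem_cent.2 (by rw [← SubmonoidClass.coe_pow]; exact (hAA a ha _ hr).map S.subtype)
    rw [hall x _ hx1 hk] at h2
    exact (mem_cent.1 h2).eq
  obtain ⟨q, hq⟩ := exists_prime_orderOf_dvd_card' (G := S ⧸ A) 2 (by
    obtain ⟨n, hn⟩ := IsPGroup.iff_card.1 (P.isPGroup'.to_quotient A)
    rw [hn]
    refine dvd_pow_self 2 fun e => hne ?_
    rw [e, pow_zero] at hn
    exact Subgroup.index_eq_one.1 ((Subgroup.index_eq_card A).trans hn))
  obtain ⟨x, rfl⟩ := QuotientGroup.mk_surjective q
  have hx : x ∉ A := fun h1 => by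
    rw [(QuotientGroup.eq_one_iff x).2 h1, orderOf_one] at hq
    omega
  have hx2 : x ^ 2 ∈ A := by
    rw [← QuotientGroup.eq_one_iff, QuotientGroup.mk_pow, ← hq, pow_orderOf_eq_one]
  have hxx : x * x = 1 := by rw [← pow_two]; exact hsq x hx hx2
  have hinv : ∀ a ∈ A, x * a * x⁻¹ = a⁻¹ := by
    intro a ha
    have h1 : (x * a) ^ 2 = 1 := by
      refine hsq _ (fun h1 => hx ?_) ?_
      · have := A.mul_mem h1 (A.inv_mem ha)
        rwa [mul_inv_cancel_right] at this
      · rw [pow_two, show x * a * (x * a) = (x * a * x⁻¹) * (x * x) * a by group]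
        exact mul_mem (mul_mem (hAn.conj_mem a ha x) (by rw [hxx]; exact one_mem _)) ha
    rw [inv_eq_of_mul_eq_one_right hxx]
    exact eq_inv_of_mul_eq_one_left (by rw [← h1, pow_two]; group)
  refine hx (hself.le (Subgroup.mem_centralizer_iff.2 fun a ha => ?_))
  suffices a⁻¹ = a by
    have := hinv a ha
    rw [‹a⁻¹ = a›] at this
    exact (mul_inv_eq_iff_eq_mul.1 this).symm
  by_contra hne2
  obtain ⟨k, hk⟩ := hord a
  have ha1 : (a : G) ≠ 1 := fun e => hne2 (by rw [show a = 1 from Subtype.ext e, inv_one])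
  have hk0 : k ≠ 0 := fun e => ha1 (orderOf_eq_one_iff.1 (by rw [hk, e, pow_zero]))
  have hrA : a ^ (orderOf (a : G) / 2) ∈ A := pow_mem ha _
  have hro : orderOf ((a : G) ^ (orderOf (a : G) / 2)) = 2 :=
    orderOf_pow_orderOf_div (orderOf_pos _).ne' (hk ▸ dvd_pow_self 2 hk0)
  have h1 : (x : G) ∈ Subgroup.centralizer ({(a : G) ^ (orderOf (a : G) / 2)} : Set G) := by
    refine mem_cent.2 (mul_inv_eq_iff_eq_mul.1 ?_)
    have h2 := congrArg Subtype.val (hinv _ hrA)
    simp only [Subgroup.coe_mul, Subgroup.coe_inv, SubmonoidClass.coe_pow] at h2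
    rw [h2, inv_eq_iff_mul_eq_one, ← pow_two]
    exact orderOf_dvd_iff_pow_eq_one.1 hro.dvd
  rw [hall a _ ha1 hk] at h1
  have h3 : x * a * x⁻¹ = a := by
    rw [mul_inv_eq_iff_eq_mul]
    exact Subtype.ext (mem_cent.1 h1).eq
  exact hne2 ((hinv a ha).symm.trans h3)

variable [IsSimpleGroup G]

/-- An involution with even index and a centraliser of two values is impossible for flat sizes. -/
theorem false_of_even (F : Flat G) (X : Sep G) (hS : ¬ SAb G) {t v : G} (ht : orderOf t = 2) (B : Below t v)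
    {j : ℕ} (hj : cix v = cix t * 2 ^ j) (h2 : 2 ∣ cix t) : False := by
  haveI := Fact.mk Nat.prime_two
  have hcv : 2 ∣ cix v := h2.trans B.dvd
  obtain ⟨S, htS⟩ := exists_sylow_mem (r := 2) (k := 1) (f := t) (by rw [ht, pow_one])
  obtain ⟨z, hzS, hzo, hzc, hznd⟩ := exists_center 2 (h2.trans (cix_dvd_card t)) S
  have hz1 : z ≠ 1 := fun e => by simp [e] at hzo
  have hodd : ∀ {a : ℕ}, ¬ 2 ∣ a → a ∣ cix v → a ∣ cix t := fun {a} ha hd => by
    rw [hj] at hd
    exact (((Nat.prime_two.coprime_iff_not_dvd).2 ha).symm.pow_right j).dvd_of_dvd_mul_right hd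
  rcases max_or_below hz1 with hzm | ⟨w, Bz⟩
  swap
  · by_cases hwv : cix w = cix v
    · exact hznd ((F.bot B hz1 (hodd hznd (hwv ▸ Bz.dvd))) ▸ h2)
    · exact not_commute X.hna hz1 B.hu (X.apart Bz B hwv) (hzc t htS).symm
  · have hz2 : ∀ u ∈ Subgroup.centralizer ({z} : Set G), (orderOf u).Coprime 2 → u = 1 := by
      intro u hu hu2
      by_contra hu1
      have hle := hzm.le hz1 (mem_cent.1 hu).symm (by rw [hzo]; exact hu2.symm)
      have htu : Commute t u := mem_cent.1 (hle (mem_cent.2 (hzc t htS)))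
      have hco : (orderOf t).Coprime (orderOf u) := by rw [ht]; exact hu2.symm
      have hl : cix u ∣ cix z := Subgroup.index_dvd_of_le hle
      have hlo : ¬ 2 ∣ cix u := fun h => hznd (h.trans hl)
      have hd : cix u ∣ cix (t * u) := Subgroup.index_dvd_of_le (centralizer_mul_le' htu hco)
      have hm := F.mult B (mul_ne_one' hco B.hu) (Subgroup.index_dvd_of_le (centralizer_mul_le htu hco))
      have heven : 2 ∣ cix (t * u) := by rcases hm with e | e <;> rw [e]; exacts [h2, hcv]
      by_cases he : cix u = cix z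
      · rw [he] at hd
        exact hznd (hzm _ (mul_ne_one' hco B.hu) hd ▸ heven)
      · rw [← F u z (t * u) ⟨hu1, hz1, hl, he⟩
          ⟨hu1, mul_ne_one' hco B.hu, hd, fun e => hlo (e ▸ heven)⟩] at heven
        exact hznd heven
    obtain ⟨f₀, i₀, k, hf1, hfo, hio, hif, hd, hne⟩ := exists_two_element hS
    obtain ⟨Q, hfQ⟩ := exists_sylow_mem hfo
    obtain ⟨g, hg⟩ := MulAction.exists_smul_eq G Q S
    have hmem : ∀ w ∈ (Q : Subgroup G), g * w * g⁻¹ ∈ (S : Subgroup G) := by
      intro w hw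
      rw [← hg]
      show g * w * g⁻¹ ∈ MulAut.conj g • (Q : Subgroup G)
      rw [Frob.mem_smul_conj_iff]
      simpa [mul_assoc] using hw
    set f := g * f₀ * g⁻¹ with hf
    set i := g * i₀ * g⁻¹ with hi
    have hfS : f ∈ (S : Subgroup G) := hmem _ hfQ
    have hiS : i ∈ (S : Subgroup G) := hmem _ (Subgroup.zpowers_le.2 hfQ hif)
    have hfo' : orderOf f = 2 ^ k := by rw [hf, ← MulAut.conj_apply, MulEquiv.orderOf_eq, hfo]
    have hio' : orderOf i = 2 := by rw [hi, ← MulAut.conj_apply, MulEquiv.orderOf_eq, hio]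
    have Bi : Below i f := ⟨fun e => by simp [e] at hio', fun e => hf1 (conj_eq_one_iff.1 e),
      by rw [hf, hi, cix_conj, cix_conj]; exact hd, by rw [hf, hi, cix_conj, cix_conj]; exact hne⟩
    have hf2 : ∀ u ∈ Subgroup.centralizer ({f} : Set G), (orderOf u).Coprime 2 → u = 1 := fun u hu hu2 =>
      hz2 u (mem_cent.2 (mem_cent.1 ((F.top Bi).le Bi.hv (mem_cent.1 hu).symm
        (by rw [hfo']; exact hu2.symm.pow_left k) (mem_cent.2 (hzc f hfS).symm))).symm) hu2
    have hfz : cix f = cix z :=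
      hzm f Bi.hv (dvd_of_no_odd hf2 hznd (cix_dvd_card z))
    have hi2 : ∀ u ∈ Subgroup.centralizer ({i} : Set G), (orderOf u).Coprime 2 → u = 1 := by
      intro u hu hu2
      have hiu : Commute i u := (mem_cent.1 hu).symm
      have hco : (orderOf i).Coprime (orderOf u) := by rw [hio']; exact hu2.symm
      have hle := centralizer_mul_le hiu hco
      rcases F.mult Bi (mul_ne_one' hco Bi.hu) (Subgroup.index_dvd_of_le hle) with e | e
      · refine hz2 u (mem_cent.2 (mem_cent.1 (?_ : z ∈ Subgroup.centralizer ({u} : Set G))).symm) hu2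
        exact centralizer_mul_le' hiu hco ((eq_of_le_cix hle e).ge (mem_cent.2 (hzc i hiS).symm))
      · by_contra hu1
        have h1 := card_mul_cix (i * u)
        rw [e, ← card_mul_cix f] at h1
        have h3 : orderOf u ∣ Nat.card (Subgroup.centralizer ({f} : Set G)) :=
          Nat.eq_of_mul_eq_mul_right (cix_pos f) h1 ▸ Subgroup.orderOf_dvd_natCard _
            (mem_cent.2 ((hiu.symm).mul_right (Commute.refl u)))
        obtain ⟨r, hr, hru⟩ := Nat.exists_prime_and_dvd (fun e1 => hu1 (orderOf_eq_one_iff.1 e1) : orderOf u ≠ 1)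
        haveI := Fact.mk hr
        obtain ⟨w, hw⟩ := exists_prime_orderOf_dvd_card' (G := Subgroup.centralizer ({f} : Set G)) r (hru.trans h3)
        rw [← Subgroup.orderOf_coe] at hw
        have := hf2 w w.2 (by rw [hw]; exact Nat.Coprime.coprime_dvd_left hru hu2)
        rw [this, orderOf_one] at hw
        exact hr.ne_one hw.symm
    exact Bi.ne (Nat.dvd_antisymm Bi.dvd (hfz ▸ dvd_of_no_odd hi2 hznd (cix_dvd_card z)))

/-- Two values at an involution of odd index give a normal complement. -/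
theorem hnc_of_odd_index (F : Flat G) (X : Sep G) (hS : ¬ SAb G) {t v : G} (ht : orderOf t = 2) (B : Below t v)
    {j : ℕ} (hj : cix v = cix t * 2 ^ j) (h2 : ¬ 2 ∣ cix t)
    (hs : Group.IsSolvable ↥(Subgroup.centralizer ({t} : Set G))) :
    HasNormalPComplement 2 ↥(Subgroup.centralizer ({t} : Set G)) := by
  haveI := Fact.mk Nat.prime_two
  obtain ⟨f₀, i₀, k, hf1, hfo, hio, -, hd, hne⟩ := exists_two_element hS
  obtain ⟨g, hg⟩ := exists_conj_mem (r := 2) hfo h2
  set f := g * f₀ * g⁻¹ with hf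
  have hfo' : orderOf f = 2 ^ k := by rw [hf, ← MulAut.conj_apply, MulEquiv.orderOf_eq, hfo]
  have hf1' : f ≠ 1 := fun e => hf1 (conj_eq_one_iff.1 e)
  have hmax : MaxS f := by
    intro w hw
    rw [hf, cix_conj]
    exact F.top ⟨fun e => by simp [e] at hio, hf1, hd, hne⟩ w hw
  have hcen : ∀ u ∈ Subgroup.centralizer ({f} : Set G), (orderOf u).Coprime 2 →
      Subgroup.centralizer ({f} : Set G) ≤ Subgroup.centralizer ({u} : Set G) := fun u hu hu2 =>
    hmax.le hf1' (mem_cent.1 hu).symm (by rw [hfo']; exact hu2.symm.pow_left k)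
  have hfC : f ∈ Subgroup.centralizer ({t} : Set G) := hg
  have htf : t ∈ Subgroup.centralizer ({f} : Set G) := mem_cent.2 (mem_cent.1 hfC).symm
  have hfv : cix f = cix v := by
    have key : cix t ∣ cix f → cix f = cix v := fun hdt =>
      (F.mult B hf1' hdt).resolve_left fun e => B.ne ((hmax v B.hv (e ▸ B.dvd)).trans e).symm
    by_cases hno : ∀ u ∈ Subgroup.centralizer ({f} : Set G), (orderOf u).Coprime 2 → u = 1
    · exact key (dvd_of_no_odd hno h2 (cix_dvd_card t))
    push Not at hno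
    obtain ⟨u, hu, hu2, hu1⟩ := hno
    have hle := hcen u hu hu2
    have htu : Commute t u := mem_cent.1 (hle htf)
    have hco : (orderOf t).Coprime (orderOf u) := by rw [ht]; exact hu2.symm
    rcases F.mult B (mul_ne_one' hco B.hu) (Subgroup.index_dvd_of_le (centralizer_mul_le htu hco)) with e | e
    · have hle2 := centralizer_mul_le' htu hco
      rw [eq_of_le_cix (centralizer_mul_le htu hco) e] at hle2
      refine key ?_
      rw [← F.bot B hu1 (Subgroup.index_dvd_of_le hle2)]
      exact Subgroup.index_dvd_of_le hle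
    · have hlf : cix u ∣ cix f := Subgroup.index_dvd_of_le hle
      have hlv : cix u ∣ cix v := e ▸ Subgroup.index_dvd_of_le (centralizer_mul_le' htu hco)
      by_cases h1 : cix u = cix v
      · exact (F.top B f hf1' (h1 ▸ hlf))
      by_cases h3 : cix u = cix f
      · exact ((hmax v B.hv (h3 ▸ hlv))).symm
      · exact F u f v ⟨hu1, hf1', hlf, h3⟩ ⟨hu1, B.hv, hlv, h1⟩
  obtain ⟨N, -, hNodd, i, hi⟩ := Transfer.hasNormalPComplement_iff_exists.1
    (hnc_of_central fun x hx => central_of_max hmax hf1' hfo' x hx)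
  set H := N.map (Subgroup.centralizer ({f} : Set G)).subtype with hH
  have hHodd : ∀ u ∈ H, (orderOf u).Coprime 2 := by
    rintro _ ⟨n, hn, rfl⟩
    rw [Subgroup.coe_subtype, Subgroup.orderOf_coe]
    exact Nat.Coprime.coprime_dvd_left (N.orderOf_dvd_natCard hn)
      ((Nat.prime_two.coprime_iff_not_dvd).2 hNodd).symm
  have hHf : H ≤ Subgroup.centralizer ({f} : Set G) := Subgroup.map_subtype_le N
  have hHC : H ≤ Subgroup.centralizer ({t} : Set G) := fun u hu =>
    mem_cent.2 (mem_cent.1 (hcen u (hHf hu) (hHodd u hu) htf)).symm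
  set C := Subgroup.centralizer ({t} : Set G)
  set H' := H.subgroupOf C with hH'
  have hidx : H'.index = 2 ^ (i + j) := by
    have h1 : H.relIndex C * C.index = H.index := Subgroup.relIndex_mul_index hHC
    have h3 : H.index = 2 ^ i * cix f := by rw [hH, Subgroup.index_map_subtype, hi]
    refine Nat.eq_of_mul_eq_mul_right (cix_pos t) ?_
    rw [show H'.index * cix t = H.index from h1, h3, hfv, hj]
    ring
  refine Transfer.hasNormalPComplement_iff_exists.2 ⟨H', ?_, ?_, i + j, hidx⟩
  · haveI := hs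
    refine normal_of_centralized (f := ⟨f, hfC⟩) (by rw [Subgroup.orderOf_mk, hfo']) H' ?_ hidx ?_
    · rw [Nat.card_congr (Subgroup.subgroupOfEquivOfLe hHC).toEquiv, hH,
        Subgroup.card_map_of_injective (Subgroup.subtype_injective _)]
      exact hNodd
    · intro c hc h hh
      rw [Subgroup.mem_subgroupOf] at hh
      have hcf : (c : G) ∈ Subgroup.centralizer ({f} : Set G) := mem_cent.2 (hc.map C.subtype)
      exact Subtype.ext (mem_cent.1 (hcen _ (hHf hh) (hHodd _ hh) hcf)).eq
  · rw [Nat.card_congr (Subgroup.subgroupOfEquivOfLe hHC).toEquiv, hH,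
      Subgroup.card_map_of_injective (Subgroup.subtype_injective _)]
    exact hNodd

/-- Involution centralisers for flat sizes. -/
theorem Flat.good (F : Flat G) (X : Sep G) {t : G} (ht : orderOf t = 2) : Good t := by
  haveI := Fact.mk Nat.prime_two
  have ht1 : t ≠ 1 := fun e => by simp [e] at ht
  rcases max_or_below ht1 with hm | ⟨v, B⟩
  · exact good_of_max ht hm
  obtain ⟨k, hk⟩ := B.dvd
  have hk1 : 1 < k := by
    rcases Nat.lt_or_ge 1 k with h | h
    · exact h
    interval_cases k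
    · exact absurd (hk.trans (mul_zero _)) (cix_pos v).ne'
    · exact absurd (hk.trans (mul_one _)).symm B.ne
  have V := vals_of ht hk hk1 fun w hw hd => F.mult B hw hd
  refine ⟨V.solvable, ?_⟩
  by_cases hS : SAb G
  · exact Or.inr hS
  left
  by_cases hk2 : 2 ∣ k
  swap
  · exact V.hnc_of_odd hk2
  set C := Subgroup.centralizer ({t} : Set G) with hC
  by_cases hall : ∀ x : C, (orderOf x).Coprime 2 → x ∈ Subgroup.center C
  · exact hnc_of_central hall
  push Not at hall
  obtain ⟨x, hx, hxc⟩ := hall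
  by_cases hpow : ∀ j : ℕ, k ≠ 2 ^ j
  · exfalso
    obtain ⟨q, hq, hq2, hqk, hoth⟩ := V.exists_prime hpow ⟨x, hx, hxc⟩
    haveI := Fact.mk hq
    have hqC : q ∣ Nat.card C :=
      hqk.trans ((V.size x hx).resolve_left (fun e => hxc (cix_eq_one.1 e)) ▸ cix_dvd_card x)
    obtain ⟨Q⟩ : Nonempty (Sylow q C) := inferInstance
    obtain ⟨y, -, hyo, -, hynd⟩ := exists_center q hqC Q
    have hy1 : (y : G) ≠ 1 := fun e => hq.ne_one (by rw [← hyo, ← Subgroup.orderOf_coe, e, orderOf_one])
    have hyc : y ∈ Subgroup.center C := cix_eq_one.1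
      ((V.size y (by rw [hyo]; exact (Nat.coprime_primes hq Nat.prime_two).2 hq2)).resolve_right
        fun e => hynd (e ▸ hqk))
    have hyle : C ≤ Subgroup.centralizer ({(y : G)} : Set G) := fun c hc =>
      mem_cent.2 ((show Commute (⟨c, hc⟩ : C) y from Subgroup.mem_center_iff.1 hyc _).map C.subtype)
    exact Pair.false (p := 2) (q := q) (x := t) (y := (y : G)) (v := v)
      { hp := Nat.prime_two
        hq := hq
        hpq := hq2.symm
        ordx := ⟨1, by rw [ht, pow_one]⟩
        ordy := ⟨1, by rw [Subgroup.orderOf_coe, hyo, pow_one]⟩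
        below := B
        cent := (eq_of_le_cix hyle (F.bot B hy1 (Subgroup.index_dvd_of_le hyle)).symm).symm
        hy := hy1
        pdvd := by rw [hk, mul_comm (cix t)]; exact Nat.mul_dvd_mul_right hk2 _
        qdvd := by rw [hk, mul_comm (cix t)]; exact Nat.mul_dvd_mul_right hqk _
        solv := V.solvable
        nonab := ⟨x, x.2, fun h => hxc (Subgroup.mem_center_iff.2 fun c => Subtype.ext (mem_cent.1 (h c.2)).eq)⟩
        others := fun g hg hgc c hc => mem_cent.2 ((show Commute (⟨c, hc⟩ : C) ⟨g, hg⟩ from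
          Subgroup.mem_center_iff.1 (hoth ⟨g, hg⟩ (by rw [Subgroup.orderOf_mk]; exact hgc)) _).map C.subtype) }
      F X
  push Not at hpow
  obtain ⟨j, rfl⟩ := hpow
  by_cases h2 : 2 ∣ cix t
  · exact (false_of_even F X hS ht B hk h2).elim
  · exact hnc_of_odd_index F X hS ht B hk h2 V.solvable

end Cfsg.Agent.Transfer.ConjRankFour
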