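import Cfsg.Agent.Lib.Transfer.ConjRankFour.Basic
import Cfsg.Agent.Lib.Transfer.TwoRegular.Main
import Cfsg.Agent.Lib.Transfer.NormalComplement
import Cfsg.Agent.Lib.Grp.Frattini
import Cfsg.Agent.S0017
import Cfsg.Agent.S0028
import Cfsg.Agent.S0144
import Cfsg.Agent.S0205
import Cfsg.Agent.S4033
import Cfsg.Agent.S4034
import Cfsg.Agent.S4035

/-!
Centralisers of involutions whose elements of odd order take two class sizes, and a criterion for
a solvable group to have a normal `2`-complement.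
-/

set_option autoImplicit false
set_option linter.style.haveILetI false
set_option maxHeartbeats 1000000

universe u

namespace Cfsg.Agent.Transfer.ConjRankFour

open Cfsg Cfsg.Agent Cfsg.Agent.Transfer.ClassDisconnected Cfsg.Agent.Transfer.ConjRankThree

variable {C : Type u} [Group C] [Finite C]

theorem solvable_of_hnc (h : HasNormalPComplement 2 C) : Group.IsSolvable C := by
  haveI := Fact.mk Nat.prime_two
  obtain ⟨N, hN, hodd, k, hk⟩ := Transfer.hasNormalPComplement_iff_exists.1 h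
  haveI := hN
  refine (Group.isSolvable_iff_subgroup_quotient N).2
    ⟨Cfsg.Agent.S0205.result (Nat.not_even_iff_odd.1 fun he => hodd he.two_dvd), ?_⟩
  haveI : Group.IsNilpotent (C ⧸ N) :=
    (IsPGroup.of_card (p := 2) (n := k) (by rw [← Subgroup.index_eq_card, hk])).isNilpotent
  infer_instance

theorem hnc_of_regular (h : ∀ x : C, (orderOf x).Coprime 2 → ¬ 2 ∣ cix x) : HasNormalPComplement 2 C := by
  haveI := Fact.mk Nat.prime_two
  obtain ⟨P⟩ : Nonempty (Sylow 2 C) := inferInstance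
  obtain ⟨hP, H, hH, hodd, -, hsup⟩ := Cfsg.Agent.S4035.result
    (fun x hx => by rw [Cfsg.Agent.S4033.class_ncard]; exact h x hx) P
  refine Transfer.hasNormalPComplement_iff_exists.2 ⟨H, hH, hodd, ?_⟩
  obtain ⟨j, hj⟩ := IsPGroup.iff_card.1 P.isPGroup'
  haveI := hH
  have e : H.index = H.relIndex (P : Subgroup C) := by
    have e1 := Subgroup.relIndex_sup_right (H := (P : Subgroup C)) (K := H)
    rw [hsup, Subgroup.relIndex_top_right] at e1
    exact e1
  obtain ⟨i, -, hi⟩ := (Nat.dvd_prime_pow Nat.prime_two).1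
    (hj ▸ (Subgroup.relIndex_dvd_card H (P : Subgroup C)))
  exact ⟨i, e.trans hi⟩

/-- All elements of odd order central. -/
theorem hnc_of_central (h : ∀ x : C, (orderOf x).Coprime 2 → x ∈ Subgroup.center C) :
    HasNormalPComplement 2 C :=
  hnc_of_regular fun x hx h2 => by
    rw [cix_eq_one.2 (h x hx), Nat.dvd_one] at h2
    omega

/-- Two values of the class size on elements of odd order. -/
structure Vals (C : Type u) [Group C] (k : ℕ) : Prop where
  one_lt : 1 < k
  size : ∀ x : C, (orderOf x).Coprime 2 → cix x = 1 ∨ cix x = k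

namespace Vals

variable {k : ℕ} (V : Vals C k)

include V in
theorem hnc_of_odd (hk : ¬ 2 ∣ k) : HasNormalPComplement 2 C :=
  hnc_of_regular fun x hx h2 => by
    rcases V.size x hx with e | e <;> rw [e] at h2
    · omega
    · exact hk h2

include V in
theorem solvable : Group.IsSolvable C := by
  classical
  haveI := Fact.mk Nat.prime_two
  by_cases h : ∀ x : C, (orderOf x).Coprime 2 → x ∈ Subgroup.center C
  · exact solvable_of_hnc (hnc_of_central h)
  simp only [not_forall] at h
  obtain ⟨x, hx, hxc⟩ := h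
  rcases TwoRegular.Hyp.structure ⟨Nat.prime_two, V.one_lt, V.size⟩ hx hxc with
    ⟨A, hA, -, j, hj⟩ | ⟨q, hq, P, Q, A, -, hAc, hcard, hN, -, hsup⟩
  · exact PRegularClass.solvable_of_abelian_complement Nat.prime_two _ C rfl A
      (fun a ha b hb => congrArg Subtype.val (hA.is_comm.comm ⟨a, ha⟩ ⟨b, hb⟩)) ⟨j, hj⟩
  · obtain ⟨a, ha⟩ := IsPGroup.iff_card.1 P.isPGroup'
    obtain ⟨b, hb⟩ := IsPGroup.iff_card.1 Q.isPGroup'
    haveI := hN
    refine (Group.isSolvable_iff_subgroup_quotient ((P : Subgroup C) ⊔ Q)).2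
      ⟨Cfsg.Agent.S0144.result 2 q a b Nat.prime_two hq.out (by rw [hcard, ha, hb]), ?_⟩
    refine Group.isSolvable_of_comm fun u v => ?_
    have key : ∀ u : C ⧸ ((P : Subgroup C) ⊔ Q), ∃ a ∈ A, (a : C ⧸ ((P : Subgroup C) ⊔ Q)) = u := by
      intro u
      obtain ⟨g, rfl⟩ := QuotientGroup.mk_surjective u
      obtain ⟨n, hn, a, ha, rfl⟩ := Subgroup.mem_sup_of_normal_left.1 (hsup.symm ▸ Subgroup.mem_top g :
        g ∈ ((P : Subgroup C) ⊔ Q) ⊔ A)
      refine ⟨a, ha, ?_⟩
      rw [QuotientGroup.mk_mul, (QuotientGroup.eq_one_iff n).2 hn, one_mul]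
    obtain ⟨a, ha, rfl⟩ := key u
    obtain ⟨b, hb, rfl⟩ := key v
    rw [← QuotientGroup.mk_mul, ← QuotientGroup.mk_mul, Subgroup.mem_center_iff.1 (hAc hb) a]

include V in
/-- If the second value is even but not a power of two, all but two primes are central. -/
theorem exists_prime (h : ∀ j : ℕ, k ≠ 2 ^ j) (hx : ∃ x : C, (orderOf x).Coprime 2 ∧ x ∉ Subgroup.center C) :
    ∃ q : ℕ, q.Prime ∧ q ≠ 2 ∧ q ∣ k ∧ ∀ g : C, (orderOf g).Coprime (2 * q) → g ∈ Subgroup.center C := by
  haveI := Fact.mk Nat.prime_two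
  obtain ⟨x, hx, hxc⟩ := hx
  have hxk : cix x = k := (V.size x hx).resolve_left fun e => hxc (cix_eq_one.1 e)
  rcases TwoRegular.Hyp.structure ⟨Nat.prime_two, V.one_lt, V.size⟩ hx hxc with
    ⟨A, hA, hodd, j, hj⟩ | ⟨q, hq, P, Q, A, hq2, hAc, hcard, hN, -, hsup⟩
  · exfalso
    obtain ⟨i, hi⟩ := (Cfsg.Agent.S4034.result Nat.prime_two).2 ⟨A, hA, hodd, j, hj⟩ x hx
    rw [Cfsg.Agent.S4033.class_ncard] at hi
    exact h i (hxk.symm.trans hi)
  · obtain ⟨a, ha⟩ := IsPGroup.iff_card.1 P.isPGroup'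
    obtain ⟨b, hb⟩ := IsPGroup.iff_card.1 Q.isPGroup'
    haveI := hN
    set N := (P : Subgroup C) ⊔ Q with hNdef
    have hNcard : Nat.card N = 2 ^ a * q ^ b := by rw [hcard, ha, hb]
    have hkN : k ∣ Nat.card N := by
      have h1 : A.index ∣ Nat.card N := by
        have e : A.index = A.relIndex N := by
          haveI : A.Normal := ⟨fun n hn g => by
            rw [Subgroup.mem_center_iff.1 (hAc hn) g, mul_inv_cancel_right]; exact hn⟩
          have e1 := Subgroup.relIndex_sup_right (H := N) (K := A)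
          rw [hsup, Subgroup.relIndex_top_right] at e1
          exact e1
        exact e ▸ Subgroup.relIndex_dvd_card A N
      rw [← hxk]
      refine dvd_trans (Subgroup.index_dvd_of_le fun g hg => ?_) h1
      exact mem_cent.2 (Subgroup.mem_center_iff.1 (hAc hg) x).symm
    refine ⟨q, hq.out, hq2, ?_, fun g hg => ?_⟩
    · by_contra hd
      rw [hNcard] at hkN
      obtain ⟨i, -, hi⟩ := (Nat.dvd_prime_pow Nat.prime_two).1
        ((((hq.out.coprime_iff_not_dvd).2 hd).symm.pow_right b).dvd_of_dvd_mul_right hkN)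
      exact h i hi
    · have hco : (orderOf g).Coprime (Nat.card N) := by
        rw [hNcard]
        exact ((Nat.Coprime.coprime_dvd_right (dvd_mul_right 2 q) hg).pow_right a).mul_right
          ((Nat.Coprime.coprime_dvd_right (dvd_mul_left q 2) hg).pow_right b)
      obtain ⟨n, hn, c, hc, hg'⟩ := Subgroup.mem_sup_of_normal_left.1
        (hsup.symm ▸ Subgroup.mem_top g : g ∈ N ⊔ A)
      have h2 : g ^ Nat.card N ∈ Subgroup.center C := by
        rw [← hg', (show Commute n c from Subgroup.mem_center_iff.1 (hAc hc) n).mul_pow,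
          show n ^ Nat.card N = 1 from congrArg Subtype.val (pow_card_eq_one' (x := (⟨n, hn⟩ : N))), one_mul]
        exact pow_mem (hAc hc) _
      obtain ⟨j, hj⟩ := exists_pow_eq_self_of_coprime hco.symm
      exact hj ▸ pow_mem h2 j

end Vals

/-- A subgroup of odd order and `2`-power index centralising the centraliser of a `2`-element is normal
in a solvable group. -/
theorem normal_of_centralized [Group.IsSolvable C] {f : C} {j : ℕ} (hf : orderOf f = 2 ^ j) (H : Subgroup C)
    (hodd : ¬ 2 ∣ Nat.card H) {i : ℕ} (hidx : H.index = 2 ^ i)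
    (hcen : ∀ c : C, Commute c f → ∀ h ∈ H, Commute c h) : H.Normal := by
  classical
  haveI := Fact.mk Nat.prime_two
  set O := Cfsg.pPrimeCore 2 C with hO
  haveI : O.Normal := Grp.pPrimeCore_isNormal
  have hOodd : (Nat.card O).Coprime 2 := Grp.pPrimeCore_coprime
  have hOH : O ≤ H := by
    have h1 : H.relIndex O ∣ 2 ^ i := hidx ▸ PRegularClass.relIndex_dvd_index H O
    exact Subgroup.relIndex_eq_one.1 (Nat.eq_one_of_dvd_coprimes
      (hOodd.pow_right i) (Subgroup.relIndex_dvd_card H O) h1)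
  set π := QuotientGroup.mk' O with hπ
  set U := Cfsg.pCore 2 (C ⧸ O) with hU
  haveI : U.Normal := Grp.pCore_isNormal
  set Hb := H.map π with hHb
  have hHbodd : (Nat.card Hb).Coprime 2 :=
    Nat.Coprime.coprime_dvd_left (Subgroup.card_map_dvd _ _)
      ((Nat.prime_two.coprime_iff_not_dvd).2 hodd).symm
  have hHU : Hb ≤ Subgroup.centralizer (U : Set (C ⧸ O)) := by
    refine Cfsg.Agent.S0028.result 2 (Subgroup.zpowers (π f)) Hb U ?_ hHbodd Grp.pCore_isPGroup ?_
      (by rw [Subgroup.normalizer_eq_top]; exact le_top) (by rw [Subgroup.normalizer_eq_top]; exact le_top) ?_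
    · obtain ⟨l, -, hl⟩ := (Nat.dvd_prime_pow Nat.prime_two).1 (hf ▸ orderOf_map_dvd π f)
      exact IsPGroup.of_card (n := l) (by rw [Nat.card_zpowers, hl])
    · rw [Subgroup.zpowers_le]
      refine Subgroup.mem_centralizer_iff.2 ?_
      rintro _ ⟨h, hh, rfl⟩
      rw [← map_mul, ← map_mul, (hcen f (Commute.refl f) h hh).eq]
    · intro x hx
      obtain ⟨c, rfl⟩ := QuotientGroup.mk'_surjective O x
      have hc : Commute (π c) (π f) :=
        (Subgroup.mem_centralizer_iff.1 hx.2 _ (Subgroup.mem_zpowers _)).symm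
      have ho : c * f * c⁻¹ * f⁻¹ ∈ O := by
        rw [← QuotientGroup.eq_one_iff]
        show π (c * f * c⁻¹ * f⁻¹) = 1
        rw [map_mul, map_mul, map_mul, map_inv, map_inv, hc.eq]
        group
      set o := c * f * c⁻¹ * f⁻¹ with hodef
      have hfo : Commute f o := hcen f (Commute.refl f) o (hOH ho)
      have h1 : o ^ 2 ^ j = 1 := by
        have h2 : (o * f) ^ 2 ^ j = 1 := by
          rw [hodef, inv_mul_cancel_right, conj_pow, ← hf, pow_orderOf_eq_one, mul_one, mul_inv_cancel]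
        rwa [hfo.symm.mul_pow, ← hf, pow_orderOf_eq_one, mul_one, hf] at h2
      have ho1 : o = 1 := orderOf_eq_one_iff.1 (Nat.eq_one_of_dvd_coprimes (hOodd.pow_right j)
        (O.orderOf_dvd_natCard ho) (orderOf_dvd_of_pow_eq_one h1))
      have hcf : Commute c f := mul_inv_eq_iff_eq_mul.1 (mul_inv_eq_one.1 ho1)
      refine Subgroup.mem_centralizer_iff.2 ?_
      rintro _ ⟨h, hh, rfl⟩
      rw [← map_mul, ← map_mul, (hcen c hcf h hh).eq]
  have hle : Hb ≤ U :=
    hHU.trans (Cfsg.Agent.S0017.result 2 Grp.pPrimeCore_quotient_eq_bot)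
  have hbot : Hb = ⊥ := by
    refine Subgroup.eq_bot_of_card_eq _ ?_
    obtain ⟨l, hl⟩ := IsPGroup.iff_card.1 ((Grp.pCore_isPGroup (G := C ⧸ O) (p := 2)).to_le hle)
    exact Nat.eq_one_of_dvd_coprimes (hHbodd.pow_right l) dvd_rfl (hl ▸ dvd_rfl)
  have : H = O := by
    refine le_antisymm ?_ hOH
    rw [hHb, Subgroup.map_eq_bot_iff, QuotientGroup.ker_mk'] at hbot
    exact hbot
  rw [this]
  infer_instance

end Cfsg.Agent.Transfer.ConjRankFour
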